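import Cfsg.Agent.H779.G2.Stmts2

/-!
# S5211: coordinate lemmas for `GU K` (helper103)

* `cj_a .. cj_f` : the coordinates of `x y x⁻¹`; `cm_a .. cm_f` : the coordinates of `x y x⁻¹ y⁻¹`;
* `mem_Z1 .. mem_Qb` (by `Iff.rfl`), inclusions `Z1 ≤ Z2 ≤ Z3 ≤ Z4 ≤ Qa, Qb`, normality (instances), orders, relative indices;
* `com_top_top : Com ⊤ ⊤ Z4`, `com_top_Z4`, `com_top_Z3`, `com_top_Z2`, `com_Qa`, `com_Qb`, `com_Qb_Z3`, ...
* `comm_*` : elements that commute; `cent_*` : centralizers (`3 ≠ 0` or `3 = 0` in `K`);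
* `x1 .. x6` : root elements, `decomp`.
-/

set_option autoImplicit false
set_option linter.unusedSimpArgs false
set_option linter.unreachableTactic false
set_option linter.unusedTactic false
set_option linter.unnecessarySeqFocus false

namespace Cfsg.Agent.H103.GT

open Cfsg Cfsg.Agent.H779.G2 Cfsg.Agent.H756.PU

universe u

variable {K : Type u} [Field K]

/-! ### conjugation and commutators -/

theorem cj_a (x y : GU K) : (x * y * x⁻¹).a = y.a := by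
  simp only [GU.mul_a, GU.mul_b, GU.mul_c, GU.mul_d, GU.mul_e, GU.mul_f, GU.inv_a, GU.inv_b, GU.inv_c, GU.inv_d, GU.inv_e, GU.inv_f]
  ring

theorem cj_b (x y : GU K) : (x * y * x⁻¹).b = y.b := by
  simp only [GU.mul_a, GU.mul_b, GU.mul_c, GU.mul_d, GU.mul_e, GU.mul_f, GU.inv_a, GU.inv_b, GU.inv_c, GU.inv_d, GU.inv_e, GU.inv_f]
  ring

theorem cj_c (x y : GU K) : (x * y * x⁻¹).c = -x.a * y.b + x.b * y.a + y.c := by
  simp only [GU.mul_a, GU.mul_b, GU.mul_c, GU.mul_d, GU.mul_e, GU.mul_f, GU.inv_a, GU.inv_b, GU.inv_c, GU.inv_d, GU.inv_e, GU.inv_f]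
  ring

theorem cj_d (x y : GU K) : (x * y * x⁻¹).d = -2 * x.a * x.b * y.a - 2 * x.a * y.c + x.a ^ 2 * y.b + x.b * y.a ^ 2 + 2 * x.c * y.a + y.d := by
  simp only [GU.mul_a, GU.mul_b, GU.mul_c, GU.mul_d, GU.mul_e, GU.mul_f, GU.inv_a, GU.inv_b, GU.inv_c, GU.inv_d, GU.inv_e, GU.inv_f]
  ring

theorem cj_e (x y : GU K) : (x * y * x⁻¹).e = -3 * x.a * x.b * y.a ^ 2 - 6 * x.a * x.c * y.a - 3 * x.a * y.d + 3 * x.a ^ 2 * x.b * y.a + 3 * x.a ^ 2 * y.c - x.a ^ 3 * y.b + x.b * y.a ^ 3 + 3 * x.c * y.a ^ 2 + 3 * x.d * y.a + y.e := by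
  simp only [GU.mul_a, GU.mul_b, GU.mul_c, GU.mul_d, GU.mul_e, GU.mul_f, GU.inv_a, GU.inv_b, GU.inv_c, GU.inv_d, GU.inv_e, GU.inv_f]
  ring

theorem cj_f (x y : GU K) : (x * y * x⁻¹).f = -6 * x.a * x.b * y.a * y.c - 3 * x.a * x.b ^ 2 * y.a ^ 2 - 3 * x.a * y.c ^ 2 + 3 * x.a ^ 2 * x.b * y.a * y.b + 3 * x.a ^ 2 * y.b * y.c - x.a ^ 3 * y.b ^ 2 + 3 * x.b * x.c * y.a ^ 2 + 3 * x.b * x.d * y.a + 3 * x.b * y.a ^ 2 * y.c - x.b * y.a ^ 3 * y.b + x.b * y.e + 2 * x.b ^ 2 * y.a ^ 3 + 6 * x.c * y.a * y.c - 3 * x.c * y.a ^ 2 * y.b - 3 * x.c * y.d - 3 * x.c ^ 2 * y.a - 3 * x.d * y.a * y.b + 3 * x.d * y.c - x.e * y.b + y.f := by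
  simp only [GU.mul_a, GU.mul_b, GU.mul_c, GU.mul_d, GU.mul_e, GU.mul_f, GU.inv_a, GU.inv_b, GU.inv_c, GU.inv_d, GU.inv_e, GU.inv_f]
  ring

theorem cm_a (x y : GU K) : (x * y * x⁻¹ * y⁻¹).a = 0 := by
  simp only [GU.mul_a, GU.mul_b, GU.mul_c, GU.mul_d, GU.mul_e, GU.mul_f, GU.inv_a, GU.inv_b, GU.inv_c, GU.inv_d, GU.inv_e, GU.inv_f]
  ring

theorem cm_b (x y : GU K) : (x * y * x⁻¹ * y⁻¹).b = 0 := by
  simp only [GU.mul_a, GU.mul_b, GU.mul_c, GU.mul_d, GU.mul_e, GU.mul_f, GU.inv_a, GU.inv_b, GU.inv_c, GU.inv_d, GU.inv_e, GU.inv_f]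
  ring

theorem cm_c (x y : GU K) : (x * y * x⁻¹ * y⁻¹).c = -x.a * y.b + x.b * y.a := by
  simp only [GU.mul_a, GU.mul_b, GU.mul_c, GU.mul_d, GU.mul_e, GU.mul_f, GU.inv_a, GU.inv_b, GU.inv_c, GU.inv_d, GU.inv_e, GU.inv_f]
  ring

theorem cm_d (x y : GU K) : (x * y * x⁻¹ * y⁻¹).d = -2 * x.a * x.b * y.a + 2 * x.a * y.a * y.b - 2 * x.a * y.c + x.a ^ 2 * y.b - x.b * y.a ^ 2 + 2 * x.c * y.a := by
  simp only [GU.mul_a, GU.mul_b, GU.mul_c, GU.mul_d, GU.mul_e, GU.mul_f, GU.inv_a, GU.inv_b, GU.inv_c, GU.inv_d, GU.inv_e, GU.inv_f]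
  ring

theorem cm_e (x y : GU K) : (x * y * x⁻¹ * y⁻¹).e = 3 * x.a * x.b * y.a ^ 2 - 6 * x.a * x.c * y.a + 6 * x.a * y.a * y.c - 3 * x.a * y.a ^ 2 * y.b - 3 * x.a * y.d + 3 * x.a ^ 2 * x.b * y.a - 3 * x.a ^ 2 * y.a * y.b + 3 * x.a ^ 2 * y.c - x.a ^ 3 * y.b + x.b * y.a ^ 3 - 3 * x.c * y.a ^ 2 + 3 * x.d * y.a := by
  simp only [GU.mul_a, GU.mul_b, GU.mul_c, GU.mul_d, GU.mul_e, GU.mul_f, GU.inv_a, GU.inv_b, GU.inv_c, GU.inv_d, GU.inv_e, GU.inv_f]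
  ring

theorem cm_f (x y : GU K) : (x * y * x⁻¹ * y⁻¹).f = 3 * x.a * x.b * y.a ^ 2 * y.b - 3 * x.a * x.b ^ 2 * y.a ^ 2 - 6 * x.a * x.c * y.a * y.b - 3 * x.a * y.b * y.d + 3 * x.a * y.c ^ 2 + 6 * x.a ^ 2 * x.b * y.a * y.b - 3 * x.a ^ 2 * y.a * y.b ^ 2 + 3 * x.a ^ 2 * y.b * y.c - 2 * x.a ^ 3 * y.b ^ 2 + 3 * x.b * x.c * y.a ^ 2 + 3 * x.b * x.d * y.a + x.b * y.e - x.b ^ 2 * y.a ^ 3 - 3 * x.c * y.d - 3 * x.c ^ 2 * y.a + 3 * x.d * y.c - x.e * y.b := by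
  simp only [GU.mul_a, GU.mul_b, GU.mul_c, GU.mul_d, GU.mul_e, GU.mul_f, GU.inv_a, GU.inv_b, GU.inv_c, GU.inv_d, GU.inv_e, GU.inv_f]
  ring

/-! ### membership -/

theorem mem_Z1 {g : GU K} : g ∈ Z1 K ↔ g.a = 0 ∧ g.b = 0 ∧ g.c = 0 ∧ g.d = 0 ∧ g.e = 0 := Iff.rfl

theorem mem_Z2 {g : GU K} : g ∈ Z2 K ↔ g.a = 0 ∧ g.b = 0 ∧ g.c = 0 ∧ g.d = 0 := Iff.rfl

theorem mem_Z3 {g : GU K} : g ∈ Z3 K ↔ g.a = 0 ∧ g.b = 0 ∧ g.c = 0 := Iff.rfl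

theorem mem_Z4 {g : GU K} : g ∈ Z4 K ↔ g.a = 0 ∧ g.b = 0 := Iff.rfl

theorem mem_Qa {g : GU K} : g ∈ Qa K ↔ g.a = 0 := Iff.rfl

theorem mem_Qb {g : GU K} : g ∈ Qb K ↔ g.b = 0 := Iff.rfl

theorem Z1_le_Z2 : Z1 K ≤ Z2 K := fun _ h => ⟨h.1, h.2.1, h.2.2.1, h.2.2.2.1⟩
theorem Z2_le_Z3 : Z2 K ≤ Z3 K := fun _ h => ⟨h.1, h.2.1, h.2.2.1⟩
theorem Z3_le_Z4 : Z3 K ≤ Z4 K := fun _ h => ⟨h.1, h.2.1⟩
theorem Z4_le_Qa : Z4 K ≤ Qa K := fun _ h => h.1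
theorem Z4_le_Qb : Z4 K ≤ Qb K := fun _ h => h.2
theorem Z1_le_Z3 : Z1 K ≤ Z3 K := Z1_le_Z2.trans Z2_le_Z3
theorem Z1_le_Z4 : Z1 K ≤ Z4 K := Z1_le_Z3.trans Z3_le_Z4
theorem Z2_le_Z4 : Z2 K ≤ Z4 K := Z2_le_Z3.trans Z3_le_Z4
theorem Z3_le_Qa : Z3 K ≤ Qa K := Z3_le_Z4.trans Z4_le_Qa
theorem Z3_le_Qb : Z3 K ≤ Qb K := Z3_le_Z4.trans Z4_le_Qb
theorem Z2_le_Qa : Z2 K ≤ Qa K := Z2_le_Z4.trans Z4_le_Qa
theorem Z2_le_Qb : Z2 K ≤ Qb K := Z2_le_Z4.trans Z4_le_Qb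
theorem Z1_le_Qa : Z1 K ≤ Qa K := Z1_le_Z4.trans Z4_le_Qa
theorem Z1_le_Qb : Z1 K ≤ Qb K := Z1_le_Z4.trans Z4_le_Qb
theorem Qa_inf_Qb : Qa K ⊓ Qb K = Z4 K := le_antisymm (fun _ h => ⟨h.1, h.2⟩) (le_inf Z4_le_Qa Z4_le_Qb)

/-! ### normality -/

instance normal_Z1 : (Z1 K).Normal := by
  refine ⟨fun y hy x => ?_⟩
  obtain ⟨ha, hb, hc, hd, he⟩ := mem_Z1.1 hy
  refine ⟨?_, ?_, ?_, ?_, ?_⟩
  · rw [cj_a]; simp only [ha, hb, hc, hd, he] <;> ring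
  · rw [cj_b]; simp only [ha, hb, hc, hd, he] <;> ring
  · rw [cj_c]; simp only [ha, hb, hc, hd, he] <;> ring
  · rw [cj_d]; simp only [ha, hb, hc, hd, he] <;> ring
  · rw [cj_e]; simp only [ha, hb, hc, hd, he] <;> ring

instance normal_Z2 : (Z2 K).Normal := by
  refine ⟨fun y hy x => ?_⟩
  obtain ⟨ha, hb, hc, hd⟩ := mem_Z2.1 hy
  refine ⟨?_, ?_, ?_, ?_⟩
  · rw [cj_a]; simp only [ha, hb, hc, hd] <;> ring
  · rw [cj_b]; simp only [ha, hb, hc, hd] <;> ring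
  · rw [cj_c]; simp only [ha, hb, hc, hd] <;> ring
  · rw [cj_d]; simp only [ha, hb, hc, hd] <;> ring

instance normal_Z3 : (Z3 K).Normal := by
  refine ⟨fun y hy x => ?_⟩
  obtain ⟨ha, hb, hc⟩ := mem_Z3.1 hy
  refine ⟨?_, ?_, ?_⟩
  · rw [cj_a]; simp only [ha, hb, hc] <;> ring
  · rw [cj_b]; simp only [ha, hb, hc] <;> ring
  · rw [cj_c]; simp only [ha, hb, hc] <;> ring

instance normal_Z4 : (Z4 K).Normal := by
  refine ⟨fun y hy x => ?_⟩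
  obtain ⟨ha, hb⟩ := mem_Z4.1 hy
  refine ⟨?_, ?_⟩
  · rw [cj_a]; simp only [ha, hb] <;> ring
  · rw [cj_b]; simp only [ha, hb] <;> ring

instance normal_Qa : (Qa K).Normal := by
  refine ⟨fun y hy x => ?_⟩
  have h : y.a = 0 := hy
  show (x * y * x⁻¹).a = 0
  rw [cj_a, h]

instance normal_Qb : (Qb K).Normal := by
  refine ⟨fun y hy x => ?_⟩
  have h : y.b = 0 := hy
  show (x * y * x⁻¹).b = 0
  rw [cj_b, h]

/-! ### commutators -/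

theorem com_top_top : Com ⊤ ⊤ (Z4 K) := by
  intro x hx y hy
  refine ⟨?_, ?_⟩
  · exact cm_a x y
  · exact cm_b x y

theorem com_top_Z4 : Com ⊤ (Z4 K) (Z3 K) := by
  intro x hx y hy
  obtain ⟨qa, qb⟩ := mem_Z4.1 hy
  refine ⟨?_, ?_, ?_⟩
  · exact cm_a x y
  · exact cm_b x y
  · rw [cm_c]; simp only [qa, qb] <;> ring

theorem com_top_Z3 : Com ⊤ (Z3 K) (Z2 K) := by
  intro x hx y hy
  obtain ⟨qa, qb, qc⟩ := mem_Z3.1 hy
  refine ⟨?_, ?_, ?_, ?_⟩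
  · exact cm_a x y
  · exact cm_b x y
  · rw [cm_c]; simp only [qa, qb, qc] <;> ring
  · rw [cm_d]; simp only [qa, qb, qc] <;> ring

theorem com_top_Z2 : Com ⊤ (Z2 K) (Z1 K) := by
  intro x hx y hy
  obtain ⟨qa, qb, qc, qd⟩ := mem_Z2.1 hy
  refine ⟨?_, ?_, ?_, ?_, ?_⟩
  · exact cm_a x y
  · exact cm_b x y
  · rw [cm_c]; simp only [qa, qb, qc, qd] <;> ring
  · rw [cm_d]; simp only [qa, qb, qc, qd] <;> ring
  · rw [cm_e]; simp only [qa, qb, qc, qd] <;> ring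

theorem com_Qa : Com (Qa K) (Qa K) (Z1 K) := by
  intro x hx y hy
  have pa : x.a = 0 := hx
  have qa : y.a = 0 := hy
  refine ⟨?_, ?_, ?_, ?_, ?_⟩
  · exact cm_a x y
  · exact cm_b x y
  · rw [cm_c]; simp only [pa, qa] <;> ring
  · rw [cm_d]; simp only [pa, qa] <;> ring
  · rw [cm_e]; simp only [pa, qa] <;> ring

theorem com_Qb : Com (Qb K) (Qb K) (Z3 K) := by
  intro x hx y hy
  have pb : x.b = 0 := hx
  have qb : y.b = 0 := hy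
  refine ⟨?_, ?_, ?_⟩
  · exact cm_a x y
  · exact cm_b x y
  · rw [cm_c]; simp only [pb, qb] <;> ring

theorem com_Qb_Z3 : Com (Qb K) (Z3 K) (Z2 K) := by
  intro x hx y hy
  have pb : x.b = 0 := hx
  obtain ⟨qa, qb, qc⟩ := mem_Z3.1 hy
  refine ⟨?_, ?_, ?_, ?_⟩
  · exact cm_a x y
  · exact cm_b x y
  · rw [cm_c]; simp only [pb, qa, qb, qc] <;> ring
  · rw [cm_d]; simp only [pb, qa, qb, qc] <;> ring

theorem com_Z4 : Com (Z4 K) (Z4 K) (Z1 K) := by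
  intro x hx y hy
  obtain ⟨pa, pb⟩ := mem_Z4.1 hx
  obtain ⟨qa, qb⟩ := mem_Z4.1 hy
  refine ⟨?_, ?_, ?_, ?_, ?_⟩
  · exact cm_a x y
  · exact cm_b x y
  · rw [cm_c]; simp only [pa, pb, qa, qb] <;> ring
  · rw [cm_d]; simp only [pa, pb, qa, qb] <;> ring
  · rw [cm_e]; simp only [pa, pb, qa, qb] <;> ring

theorem com_Z4_top : Com (Z4 K) ⊤ (Z3 K) := by
  intro x hx y hy
  have h1 : x * y * x⁻¹ * y⁻¹ = (y * x * y⁻¹ * x⁻¹)⁻¹ := by group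
  rw [h1]
  exact inv_mem (com_top_Z4 y hy x hx)

theorem com_Z3_top : Com (Z3 K) ⊤ (Z2 K) := by
  intro x hx y hy
  have h1 : x * y * x⁻¹ * y⁻¹ = (y * x * y⁻¹ * x⁻¹)⁻¹ := by group
  rw [h1]
  exact inv_mem (com_top_Z3 y hy x hx)

theorem com_Z2_top : Com (Z2 K) ⊤ (Z1 K) := by
  intro x hx y hy
  have h1 : x * y * x⁻¹ * y⁻¹ = (y * x * y⁻¹ * x⁻¹)⁻¹ := by group
  rw [h1]
  exact inv_mem (com_top_Z2 y hy x hx)

/-- two elements commute iff the commutator has trivial coordinates -/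
theorem comm_iff (x y : GU K) : x * y = y * x ↔ (x * y * x⁻¹ * y⁻¹).c = 0 ∧ (x * y * x⁻¹ * y⁻¹).d = 0 ∧
    (x * y * x⁻¹ * y⁻¹).e = 0 ∧ (x * y * x⁻¹ * y⁻¹).f = 0 := by
  have h1 : x * y = y * x ↔ x * y * x⁻¹ * y⁻¹ = 1 := by
    rw [mul_inv_eq_one, mul_inv_eq_iff_eq_mul]
  rw [h1]
  constructor
  · intro h
    rw [h]
    exact ⟨rfl, rfl, rfl, rfl⟩
  · rintro ⟨h2, h3, h4, h5⟩
    exact GU.ext (cm_a x y) (cm_b x y) h2 h3 h4 h5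

/-- `Z₁` is central -/
theorem comm_Z1 (x : GU K) {y : GU K} (hy : y ∈ Z1 K) : x * y = y * x := by
  obtain ⟨ha, hb, hc, hd, he⟩ := mem_Z1.1 hy
  rw [comm_iff, cm_c, cm_d, cm_e, cm_f]
  simp only [ha, hb, hc, hd, he]
  refine ⟨?_, ?_, ?_, ?_⟩ <;> ring

/-- `Q_b` centralizes `Z₂` -/
theorem comm_Qb_Z2 {x y : GU K} (hx : x ∈ Qb K) (hy : y ∈ Z2 K) : x * y = y * x := by
  have hb' : x.b = 0 := hx
  obtain ⟨ha, hb, hc, hd⟩ := mem_Z2.1 hy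
  rw [comm_iff, cm_c, cm_d, cm_e, cm_f]
  simp only [ha, hb, hc, hd, hb']
  refine ⟨?_, ?_, ?_, ?_⟩ <;> ring

/-- `Z₃` is abelian -/
theorem comm_Z3 {x y : GU K} (hx : x ∈ Z3 K) (hy : y ∈ Z3 K) : x * y = y * x := by
  obtain ⟨pa, pb, pc⟩ := mem_Z3.1 hx
  obtain ⟨ha, hb, hc⟩ := mem_Z3.1 hy
  rw [comm_iff, cm_c, cm_d, cm_e, cm_f]
  simp only [ha, hb, hc, pa, pb, pc]
  refine ⟨?_, ?_, ?_, ?_⟩ <;> ring

/-- `p = 3`: `Z₄` is abelian -/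
theorem comm_Z4 (h3 : (3 : K) = 0) {x y : GU K} (hx : x ∈ Z4 K) (hy : y ∈ Z4 K) : x * y = y * x := by
  obtain ⟨pa, pb⟩ := mem_Z4.1 hx
  obtain ⟨ha, hb⟩ := mem_Z4.1 hy
  rw [comm_iff, cm_c, cm_d, cm_e, cm_f]
  simp only [ha, hb, pa, pb]
  refine ⟨?_, ?_, ?_, ?_⟩
  · ring
  · ring
  · ring
  · linear_combination (x.d * y.c - x.c * y.d) * h3

/-- `p = 3`: `Q_b` centralizes `Z₃` -/
theorem comm_Qb_Z3 (h3 : (3 : K) = 0) {x y : GU K} (hx : x ∈ Qb K) (hy : y ∈ Z3 K) : x * y = y * x := by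
  have hb' : x.b = 0 := hx
  obtain ⟨ha, hb, hc⟩ := mem_Z3.1 hy
  rw [comm_iff, cm_c, cm_d, cm_e, cm_f]
  simp only [ha, hb, hc, hb']
  refine ⟨?_, ?_, ?_, ?_⟩
  · ring
  · ring
  · linear_combination (-x.a * y.d) * h3
  · linear_combination (-x.c * y.d) * h3

/-! ### root elements -/

/-- `x_α(t)` -/
def x1 (t : K) : GU K := ⟨t, 0, 0, 0, 0, 0⟩
/-- `x_β(t)` -/
def x2 (t : K) : GU K := ⟨0, t, 0, 0, 0, 0⟩
/-- `x_{α+β}(t)` -/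
def x3 (t : K) : GU K := ⟨0, 0, t, 0, 0, 0⟩
/-- `x_{2α+β}(t)` -/
def x4 (t : K) : GU K := ⟨0, 0, 0, t, 0, 0⟩
/-- `x_{3α+β}(t)` -/
def x5 (t : K) : GU K := ⟨0, 0, 0, 0, t, 0⟩
/-- `x_{3α+2β}(t)` -/
def x6 (t : K) : GU K := ⟨0, 0, 0, 0, 0, t⟩

theorem decomp (g : GU K) : g = x1 g.a * x2 g.b * x3 g.c * x4 g.d * x5 g.e * x6 g.f := by
  ext
  all_goals
    simp only [x1, x2, x3, x4, x5, x6, GU.mul_a, GU.mul_b, GU.mul_c, GU.mul_d, GU.mul_e, GU.mul_f]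
    ring

theorem x6_mem (t : K) : x6 t ∈ Z1 K := ⟨rfl, rfl, rfl, rfl, rfl⟩
theorem x5_mem (t : K) : x5 t ∈ Z2 K := ⟨rfl, rfl, rfl, rfl⟩
theorem x4_mem (t : K) : x4 t ∈ Z3 K := ⟨rfl, rfl, rfl⟩
theorem x3_mem (t : K) : x3 t ∈ Z4 K := ⟨rfl, rfl⟩
theorem x2_mem (t : K) : x2 t ∈ Qa K := rfl
theorem x1_mem (t : K) : x1 t ∈ Qb K := rfl

/-! ### centralizers -/

/-- `C_S(Z₂) = Q_b` -/
theorem cent_Z2 {x : GU K} : (∀ z ∈ Z2 K, x * z = z * x) ↔ x ∈ Qb K := by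
  constructor
  · intro h
    have h1 := (comm_iff _ _).1 (h _ (x5_mem 1))
    rw [cm_f] at h1
    have h2 := h1.2.2.2
    simp only [x5] at h2
    show x.b = 0
    linear_combination h2
  · intro hx z hz
    exact comm_Qb_Z2 hx hz

/-- `C_S(Z₃) = Z₃` if `p ≠ 3` -/
theorem cent_Z3 (h3 : (3 : K) ≠ 0) {x : GU K} : (∀ z ∈ Z3 K, x * z = z * x) ↔ x ∈ Z3 K := by
  constructor
  · intro h
    have hb : x.b = 0 := cent_Z2.1 fun z hz => h z (Z2_le_Z3 hz)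
    have h1 := (comm_iff _ _).1 (h _ (x4_mem 1))
    rw [cm_e, cm_f] at h1
    obtain ⟨-, -, h4, h5⟩ := h1
    simp only [x4] at h4 h5
    refine ⟨?_, hb, ?_⟩
    · apply mul_left_cancel₀ h3
      linear_combination -h4
    · apply mul_left_cancel₀ h3
      linear_combination -h5
  · intro hx z hz
    exact comm_Z3 hx hz

/-- `C_S(Z₄) = Z₂` if `p ≠ 3` -/
theorem cent_Z4 (h3 : (3 : K) ≠ 0) {x : GU K} : (∀ z ∈ Z4 K, x * z = z * x) ↔ x ∈ Z2 K := by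
  constructor
  · intro h
    have h0 := (cent_Z3 h3).1 fun z hz => h z (Z3_le_Z4 hz)
    obtain ⟨ha, hb, hc⟩ := mem_Z3.1 h0
    have h1 := (comm_iff _ _).1 (h _ (x3_mem 1))
    rw [cm_f] at h1
    have h5 := h1.2.2.2
    simp only [x3, ha, hb, hc] at h5
    refine ⟨ha, hb, hc, ?_⟩
    apply mul_left_cancel₀ h3
    linear_combination h5
  · intro hx z hz
    exact (comm_Qb_Z2 (Z4_le_Qb hz) hx).symm

/-- `C_S(Q_b) = Z₂` if `p ≠ 3` -/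
theorem cent_Qb (h3 : (3 : K) ≠ 0) {x : GU K} : (∀ z ∈ Qb K, x * z = z * x) ↔ x ∈ Z2 K := by
  constructor
  · intro h
    exact (cent_Z4 h3).1 fun z hz => h z (Z4_le_Qb hz)
  · intro hx z hz
    exact (comm_Qb_Z2 hz hx).symm

/-- `C_S(Q_a) = Z₁` if `p ≠ 3` -/
theorem cent_Qa (h3 : (3 : K) ≠ 0) {x : GU K} : (∀ z ∈ Qa K, x * z = z * x) ↔ x ∈ Z1 K := by
  constructor
  · intro h
    have h0 := (cent_Z4 h3).1 fun z hz => h z (Z4_le_Qa hz)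
    obtain ⟨ha, hb, hc, hd⟩ := mem_Z2.1 h0
    have h1 := (comm_iff _ _).1 (h _ (x2_mem 1))
    rw [cm_f] at h1
    have h5 := h1.2.2.2
    simp only [x2, ha, hb, hc, hd] at h5
    refine ⟨ha, hb, hc, hd, ?_⟩
    linear_combination -h5
  · intro hx z _
    exact (comm_Z1 z hx).symm

/-- `Z(S) = Z₁` if `p ≠ 3` -/
theorem cent_top (h3 : (3 : K) ≠ 0) {x : GU K} : (∀ z : GU K, x * z = z * x) ↔ x ∈ Z1 K := by
  constructor
  · intro h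
    exact (cent_Qa h3).1 fun z _ => h z
  · intro hx z
    exact (comm_Z1 z hx).symm

/-- `p = 3`: `C_S(Z₄) = Z₄` -/
theorem cent_Z4_three (h3 : (3 : K) = 0) {x : GU K} : (∀ z ∈ Z4 K, x * z = z * x) ↔ x ∈ Z4 K := by
  constructor
  · intro h
    have hb : x.b = 0 := cent_Z2.1 fun z hz => h z (Z2_le_Z4 hz)
    have h1 := (comm_iff _ _).1 (h _ (x3_mem 1))
    rw [cm_d] at h1
    have h4 := h1.2.1
    simp only [x3] at h4
    refine ⟨?_, hb⟩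
    linear_combination h4 + x.a * h3
  · intro hx z hz
    exact comm_Z4 h3 hx hz

/-- `p = 3`: `Z(S) = X₄ X₆` -/
theorem cent_top_three (h3 : (3 : K) = 0) {x : GU K} :
    (∀ z : GU K, x * z = z * x) ↔ x.a = 0 ∧ x.b = 0 ∧ x.c = 0 ∧ x.e = 0 := by
  constructor
  · intro h
    obtain ⟨ha, hb⟩ := (cent_Z4_three h3).1 fun z _ => h z
    have h1 := (comm_iff _ _).1 (h (x1 1))
    have h2 := (comm_iff _ _).1 (h (x2 1))
    rw [cm_d] at h1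
    rw [cm_f] at h2
    have h4 := h1.2.1
    have h5 := h2.2.2.2
    simp only [x1, ha, hb] at h4
    simp only [x2, ha, hb] at h5
    refine ⟨ha, hb, ?_, ?_⟩
    · linear_combination -h4 + x.c * h3
    · linear_combination -h5
  · rintro ⟨ha, hb, hc, he⟩ z
    rw [comm_iff, cm_c, cm_d, cm_e, cm_f]
    simp only [ha, hb, hc, he]
    refine ⟨?_, ?_, ?_, ?_⟩
    · ring
    · ring
    · linear_combination (x.d * z.a) * h3
    · linear_combination (x.d * z.c) * h3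

/-- the centralizer in `Z₄` of an element with `a, b ≠ 0` (`p ≥ 5`) -/
theorem mem_Z1_of_comm (h2 : (2 : K) ≠ 0) (h3 : (3 : K) ≠ 0) {x z : GU K} (ha : x.a ≠ 0) (hb : x.b ≠ 0)
    (hz : z ∈ Z4 K) (h : x * z = z * x) : z ∈ Z1 K := by
  obtain ⟨qa, qb⟩ := mem_Z4.1 hz
  have h1 := (comm_iff _ _).1 h
  rw [cm_d, cm_e, cm_f] at h1
  obtain ⟨-, h4, h5, h6⟩ := h1
  simp only [qa, qb] at h4 h5 h6
  have hc : z.c = 0 := by
    apply mul_left_cancel₀ (mul_ne_zero h2 ha)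
    linear_combination -h4
  have hd : z.d = 0 := by
    apply mul_left_cancel₀ (mul_ne_zero h3 ha)
    rw [hc] at h5
    linear_combination -h5
  have he : z.e = 0 := by
    apply mul_left_cancel₀ hb
    rw [hc, hd] at h6
    linear_combination h6
  exact ⟨qa, qb, hc, hd, he⟩

/-! ### orders -/

section Card

/-- coordinates of `Z1` -/
def equiv_Z1 : Z1 K ≃ K where
  toFun x := (x : GU K).f
  invFun y := ⟨⟨0, 0, 0, 0, 0, y⟩, ⟨rfl, rfl, rfl, rfl, rfl⟩⟩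
  left_inv x := by
    apply Subtype.ext
    obtain ⟨ha, hb, hc, hd, he⟩ := mem_Z1.1 x.2
    ext
    · exact ha.symm
    · exact hb.symm
    · exact hc.symm
    · exact hd.symm
    · exact he.symm
    · rfl
  right_inv y := rfl

theorem card_Z1 [Finite K] : Nat.card (Z1 K) = Nat.card K := by
  rw [Nat.card_congr equiv_Z1]

/-- coordinates of `Z2` -/
def equiv_Z2 : Z2 K ≃ K × K where
  toFun x := ((x : GU K).e, (x : GU K).f)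
  invFun y := ⟨⟨0, 0, 0, 0, y.1, y.2⟩, ⟨rfl, rfl, rfl, rfl⟩⟩
  left_inv x := by
    apply Subtype.ext
    obtain ⟨ha, hb, hc, hd⟩ := mem_Z2.1 x.2
    ext
    · exact ha.symm
    · exact hb.symm
    · exact hc.symm
    · exact hd.symm
    · rfl
    · rfl
  right_inv y := rfl

theorem card_Z2 [Finite K] : Nat.card (Z2 K) = Nat.card K ^ 2 := by
  rw [Nat.card_congr equiv_Z2]
  simp only [Nat.card_prod]
  ring

/-- coordinates of `Z3` -/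
def equiv_Z3 : Z3 K ≃ K × K × K where
  toFun x := ((x : GU K).d, (x : GU K).e, (x : GU K).f)
  invFun y := ⟨⟨0, 0, 0, y.1, y.2.1, y.2.2⟩, ⟨rfl, rfl, rfl⟩⟩
  left_inv x := by
    apply Subtype.ext
    obtain ⟨ha, hb, hc⟩ := mem_Z3.1 x.2
    ext
    · exact ha.symm
    · exact hb.symm
    · exact hc.symm
    · rfl
    · rfl
    · rfl
  right_inv y := rfl

theorem card_Z3 [Finite K] : Nat.card (Z3 K) = Nat.card K ^ 3 := by
  rw [Nat.card_congr equiv_Z3]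
  simp only [Nat.card_prod]
  ring

/-- coordinates of `Z4` -/
def equiv_Z4 : Z4 K ≃ K × K × K × K where
  toFun x := ((x : GU K).c, (x : GU K).d, (x : GU K).e, (x : GU K).f)
  invFun y := ⟨⟨0, 0, y.1, y.2.1, y.2.2.1, y.2.2.2⟩, ⟨rfl, rfl⟩⟩
  left_inv x := by
    apply Subtype.ext
    obtain ⟨ha, hb⟩ := mem_Z4.1 x.2
    ext
    · exact ha.symm
    · exact hb.symm
    · rfl
    · rfl
    · rfl
    · rfl
  right_inv y := rfl

theorem card_Z4 [Finite K] : Nat.card (Z4 K) = Nat.card K ^ 4 := by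
  rw [Nat.card_congr equiv_Z4]
  simp only [Nat.card_prod]
  ring

/-- coordinates of `Qa` -/
def equiv_Qa : Qa K ≃ K × K × K × K × K where
  toFun x := ((x : GU K).b, (x : GU K).c, (x : GU K).d, (x : GU K).e, (x : GU K).f)
  invFun y := ⟨⟨0, y.1, y.2.1, y.2.2.1, y.2.2.2.1, y.2.2.2.2⟩, rfl⟩
  left_inv x := by
    apply Subtype.ext
    have ha : (x : GU K).a = 0 := x.2
    ext
    · exact ha.symm
    · rfl
    · rfl
    · rfl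
    · rfl
    · rfl
  right_inv y := rfl

theorem card_Qa [Finite K] : Nat.card (Qa K) = Nat.card K ^ 5 := by
  rw [Nat.card_congr equiv_Qa]
  simp only [Nat.card_prod]
  ring

/-- coordinates of `Qb` -/
def equiv_Qb : Qb K ≃ K × K × K × K × K where
  toFun x := ((x : GU K).a, (x : GU K).c, (x : GU K).d, (x : GU K).e, (x : GU K).f)
  invFun y := ⟨⟨y.1, 0, y.2.1, y.2.2.1, y.2.2.2.1, y.2.2.2.2⟩, rfl⟩
  left_inv x := by
    apply Subtype.ext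
    have hb : (x : GU K).b = 0 := x.2
    ext
    · rfl
    · exact hb.symm
    · rfl
    · rfl
    · rfl
    · rfl
  right_inv y := rfl

theorem card_Qb [Finite K] : Nat.card (Qb K) = Nat.card K ^ 5 := by
  rw [Nat.card_congr equiv_Qb]
  simp only [Nat.card_prod]
  ring

/-- relative indices from orders -/
theorem relIndex_eq {G : Type*} [Group G] {A B : Subgroup G} (h : A ≤ B) {m n k : ℕ} (hA : Nat.card A = m)
    (hB : Nat.card B = n) (hk : n = m * k) (hm : 0 < m) : A.relIndex B = k := by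
  have h1 : Nat.card A * A.relIndex B = Nat.card B := by
    rw [← Subgroup.relIndex_bot_left, ← Subgroup.relIndex_bot_left]
    exact Subgroup.relIndex_mul_relIndex _ _ _ bot_le h
  rw [hA, hB, hk] at h1
  exact Nat.eq_of_mul_eq_mul_left hm h1

end Card

end Cfsg.Agent.H103.GT
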