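import Cfsg.Agent.H103.GT.Grp
import Cfsg.Agent.H103.GT.Coord
import Cfsg.Agent.H756.PU.AsmGen
import Cfsg.Agent.H245.PU.Ess
import Cfsg.Agent.H546.PU.Constr
import Cfsg.Agent.H805.PU.Main
import Cfsg.Agent.H802.FusSat

/-!
# S5211: the assembly (helper103)

* `red_of` : reduction of the realizability of all saturated systems over `GU K` (`q > 2`, `(p, n) ≠ (7, 1)`) to those with both
  `Q_a`, `Q_b` essential and `AF F = Inn ⊔ D`, `D ≤ TT K` of `p'`-order;
* `stMainBig_of` : `StMainBig` from the pieces;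
* `final_of` : the statement of S5211 from `StSyl` and the five `StMain`.
-/

set_option autoImplicit false

namespace Cfsg.Agent.H103.GT

open Cfsg Cfsg.FusionSystem Cfsg.Agent.H779.G2 Cfsg.Agent.H756.PU Cfsg.Agent.H802

universe u v

/-! ### transport of essential subgroups by `Aut_F(S)` -/

section

variable {G0 : Type u} [Group G0] [Finite G0] {p : ℕ} [Fact p.Prime] {F : FusionSystem (⊤ : Subgroup G0)}

omit [Finite G0] [Fact p.Prime] in
/-- if `Q` has a non normal automizer then so does `β(Q)`, `β ∈ Aut_F(S)` -/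
theorem not_norm_map {β : MulAut G0} (hβ : β ∈ AF F) {Q Q' : Subgroup G0} (hQ : Q.map β.toMonoidHom = Q')
    (h : ¬ ∀ γ ∈ F.autGroup Q, NormAut ⊤ γ) : ¬ ∀ γ ∈ F.autGroup Q', NormAut ⊤ γ := by
  intro hn
  apply h
  intro γ hγ x hx
  -- the restriction of `β` to `Q`
  have hφ : (topHom β).comp (Subgroup.inclusion (le_top : Q ≤ ⊤)) ∈ F.Hom Q :=
    restrict_mem (mem_AF_iff.1 hβ) le_top
  have hr : ((topHom β).comp (Subgroup.inclusion (le_top : Q ≤ ⊤))).range = Q' := by
    rw [← hQ]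
    ext y
    constructor
    · rintro ⟨z, rfl⟩
      exact ⟨z, z.2, rfl⟩
    · rintro ⟨z, hz, rfl⟩
      exact ⟨⟨z, hz⟩, rfl⟩
  have key : ∀ (α : MulAut Q), MulAut.congr (isoOf _ (F.injective_of_mem hφ) hr) α ∈ autInducedBy ⊤ Q' ↔
      α ∈ autInducedBy ⊤ Q := by
    intro α
    rw [mem_autInducedBy_iff, mem_autInducedBy_iff]
    have hap : ∀ (z : Q), ((MulAut.congr (isoOf _ (F.injective_of_mem hφ) hr) α
        (isoOf _ (F.injective_of_mem hφ) hr z) : Q') : G0) = β (α z : Q) := by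
      intro z
      have h1 : MulAut.congr (isoOf _ (F.injective_of_mem hφ) hr) α (isoOf _ (F.injective_of_mem hφ) hr z) =
          isoOf _ (F.injective_of_mem hφ) hr (α z) := by
        show isoOf _ (F.injective_of_mem hφ) hr (α ((isoOf _ (F.injective_of_mem hφ) hr).symm
          (isoOf _ (F.injective_of_mem hφ) hr z))) = _
        rw [MulEquiv.symm_apply_apply]
      rw [h1]
      rfl
    constructor
    · rintro ⟨g, -, hg⟩
      refine ⟨β.symm g, Subgroup.mem_top _, fun z => ?_⟩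
      have h1 := hg (isoOf _ (F.injective_of_mem hφ) hr z)
      rw [hap] at h1
      apply β.injective
      rw [h1]
      show g * β z * g⁻¹ = β (β.symm g * z * (β.symm g)⁻¹)
      rw [map_mul, map_mul, map_inv, MulEquiv.apply_symm_apply]
    · rintro ⟨g, -, hg⟩
      refine ⟨β g, Subgroup.mem_top _, fun y => ?_⟩
      obtain ⟨z, rfl⟩ := (isoOf _ (F.injective_of_mem hφ) hr).surjective y
      rw [hap, hg z]
      show β (g * z * g⁻¹) = β g * β z * (β g)⁻¹
      rw [map_mul, map_mul, map_inv]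
  have h1 := hn _ (congr_mem_autGroup hφ hr hγ) _ ((key x).2 hx)
  rw [← map_inv, ← map_mul, ← map_mul] at h1
  exact (key _).1 h1

end

/-! ### the pieces -/

/-- the pieces needed for the reduction -/
structure Pieces : Prop where
  e5 : StE5.{u}
  e3 : StE3.{u}
  e2 : StE2.{u}
  ti : StTI.{u}
  pos : StPos.{u}

section

variable {K : Type u} [Field K] {p n : ℕ}

theorem finite_GU (hK : HypG K p n) : Finite (GU K) := by
  have : Finite K := hK.fin
  infer_instance

theorem isP (hK : HypG K p n) : IsPGroup p (⊤ : Subgroup (GU K)) := (stGrp hK).2.1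

theorem two_le_of (hK : HypG K p n) (hq : 2 < p ^ n) (h2 : p = 2) : 2 ≤ n := by
  subst h2
  rcases Nat.lt_or_ge n 2 with h | h
  · exfalso
    have : n = 1 := by have := hK.hn; omega
    subst this
    omega
  · exact h

theorem ess_cases (H : Pieces.{u}) (hK : HypG K p n) (hq : 2 < p ^ n) (h7 : ¬ (p = 7 ∧ n = 1))
    {F : FusionSystem (⊤ : Subgroup (GU K))} (hF : F.IsSaturated p) {E : Subgroup (GU K)}
    (hE : F.IsEssential p E) : E = Qa K ∨ E = Qb K := by
  have : Fact p.Prime := ⟨hK.pp⟩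
  by_cases h2 : p = 2
  · exact H.e2 hK h2 (two_le_of hK hq h2) F hF E hE
  by_cases h3 : p = 3
  · exact H.e3 hK h3 F hF E hE
  have h5 : 5 ≤ p := by
    have h1 := hK.pp.two_le
    have h4 : p ≠ 4 := by
      rintro rfl
      exact absurd hK.pp (by norm_num)
    omega
  exact H.e5 hK h5 h7 F hF E hE

theorem top_le_norm (Q : Subgroup (GU K)) (hQ : Q = Qa K ∨ Q = Qb K) :
    (⊤ : Subgroup (GU K)) ≤ Subgroup.normalizer (Q : Set (GU K)) := by
  rcases hQ with rfl | rfl
  · exact (Subgroup.normalizer_eq_top_iff.2 inferInstance).ge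
  · exact (Subgroup.normalizer_eq_top_iff.2 inferInstance).ge

theorem par_of (hK : HypG K p n) {F : FusionSystem (⊤ : Subgroup (GU K))}
    (hF : F.IsSaturated p) {Q : Subgroup (GU K)} (hQ : Q = Qa K ∨ Q = Qb K)
    (hnn : ¬ ∀ γ ∈ F.autGroup Q, NormAut ⊤ γ)
    {D : Subgroup (MulAut (GU K))} (hD : D ≤ TT K) (hDc : (Nat.card D).Coprime p)
    (hAF : AF F = (MulAut.conj : GU K →* MulAut (GU K)).range ⊔ D) : Par p Q (F.autGroup Q) D := by
  have : Fact p.Prime := ⟨hK.pp⟩
  have hfin : Finite (GU K) := finite_GU hK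
  have hS := isP hK
  have hn := top_le_norm Q hQ
  refine ⟨autInducedBy_le_autGroup F le_top, syl_of_normal hS hF hn, hnn, hD, hDc, ?_, ?_⟩
  · intro d hd γ hγ
    have h1 : d ∈ AF F := by
      rw [hAF]
      exact Subgroup.mem_sup_right hd
    exact res_mem h1 hγ
  · intro γ hγ hN
    obtain ⟨β, hβ, he⟩ := ext_mem hS hF hn hγ hN
    rw [hAF] at hβ
    obtain ⟨x, d, hd, rfl⟩ := mem_range_sup hβ
    exact ⟨x, d, hd, fun e => he e⟩

theorem norm_of_ess (hK : HypG K p n) {F : FusionSystem (⊤ : Subgroup (GU K))}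
    (hF : F.IsSaturated p) {Q : Subgroup (GU K)} (hE : F.IsEssential p Q) :
    ¬ ∀ γ ∈ F.autGroup Q, NormAut ⊤ γ := by
  have : Fact p.Prime := ⟨hK.pp⟩
  have hfin : Finite (GU K) := finite_GU hK
  exact not_norm_of_ess (Cfsg.Agent.H245.PU.stEss F Q (isP hK) hF hE)

theorem ess_of_norm (H : StTI.{u}) (hK : HypG K p n) (hq : 2 < p ^ n) {F : FusionSystem (⊤ : Subgroup (GU K))}
    (hF : F.IsSaturated p) {Q : Subgroup (GU K)} (hQ : Q = Qa K ∨ Q = Qb K)
    (h : ¬ ∀ γ ∈ F.autGroup Q, NormAut ⊤ γ) : F.IsEssential p Q := by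
  have : Fact p.Prime := ⟨hK.pp⟩
  have hfin : Finite (GU K) := finite_GU hK
  obtain ⟨hTI, hC, hne, -, -⟩ := H hK hq Q hQ
  have hnn := top_le_norm Q hQ
  exact Cfsg.Agent.H546.PU.stTIEss F Q (isP hK) hF le_top hne hnn hC
    (hTI _ (autInducedBy_le_autGroup F le_top) (syl_of_normal (isP hK) hF hnn)) h

/-- the reduction -/
theorem red_of (H : Pieces.{u}) (hK : HypG K p n) (hq : 2 < p ^ n) (h7 : ¬ (p = 7 ∧ n = 1))
    (main : ∀ F : FusionSystem (⊤ : Subgroup (GU K)), F.IsSaturated p → F.IsEssential p (Qa K) →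
      F.IsEssential p (Qb K) → (∀ E, F.IsEssential p E → E = Qa K ∨ E = Qb K) →
      ∀ D : Subgroup (MulAut (GU K)), D ≤ TT K → (Nat.card D).Coprime p →
      AF F = (MulAut.conj : GU K →* MulAut (GU K)).range ⊔ D → F.IsRealizable p)
    (F : FusionSystem (⊤ : Subgroup (GU K))) (hF : F.IsSaturated p) : F.IsRealizable p := by
  have : Fact p.Prime := ⟨hK.pp⟩
  have hfin : Finite (GU K) := finite_GU hK
  have hS := isP hK
  have hess : ∀ E, F.IsEssential p E → E = Qa K ∨ E = Qb K := fun E hE => ess_cases H hK hq h7 hF hE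
  by_cases hEa : F.IsEssential p (Qa K)
  · by_cases hEb : F.IsEssential p (Qb K)
    · obtain ⟨D0, hD0, hD0e⟩ := Cfsg.Agent.H805.PU.stCompl F hS hF
      obtain ⟨θ, hθ⟩ := H.pos hK hq D0 hD0
      obtain ⟨F', hF', hR, hAF', hess'⟩ := Cfsg.Agent.H805.PU.stTwist F θ hF
      have hcase : ∀ Q : Subgroup (GU K), (Q = Qa K ∨ Q = Qb K) → F'.IsEssential p Q := by
        intro Q hQ
        -- the preimage of `Q` under `θ` is `Qa` or `Qb`
        have h1 : Q.map (θ⁻¹ : MulAut (GU K)).toMonoidHom = Qa K ∨ Q.map (θ⁻¹ : MulAut (GU K)).toMonoidHom = Qb K :=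
          (H.ti hK hq Q hQ).2.2.2.2 θ⁻¹
        have h2 : (Q.map (θ⁻¹ : MulAut (GU K)).toMonoidHom).map θ.toMonoidHom = Q := by
          rw [Subgroup.map_map]
          have : θ.toMonoidHom.comp (θ⁻¹ : MulAut (GU K)).toMonoidHom = MonoidHom.id _ := by
            ext x : 1
            exact MulAut.apply_inv_self _ _ _
          rw [this, Subgroup.map_id]
        rw [← h2]
        apply (hess' _).1
        rcases h1 with h1 | h1
        · rw [h1]; exact hEa
        · rw [h1]; exact hEb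
      apply hR
      refine main F' hF' (hcase _ (Or.inl rfl)) (hcase _ (Or.inr rfl))
        (fun E hE => ess_cases H hK hq h7 hF' hE) (D0.map (MulAut.conj θ).toMonoidHom) ?_ ?_ ?_
      · rintro _ ⟨d, hd, rfl⟩
        exact hθ d hd
      · have : Nat.card (D0.map (MulAut.conj θ).toMonoidHom) = Nat.card D0 :=
          (Nat.card_congr (D0.equivMapOfInjective _ (MulAut.conj θ).injective).toEquiv).symm
        rwa [this]
      · rw [hAF', ← hD0e, Subgroup.map_sup, map_conj_range]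
    · exact one_ess H.ti hK hq hF (Or.inl rfl) hEa fun E hE => (hess E hE).resolve_right (by rintro rfl; exact hEb hE)
  · by_cases hEb : F.IsEssential p (Qb K)
    · exact one_ess H.ti hK hq hF (Or.inr rfl) hEb fun E hE => (hess E hE).resolve_left (by rintro rfl; exact hEa hE)
    · refine Cfsg.Agent.H546.PU.stCon F ⊤ hS hF le_rfl ?_ le_top ?_ ?_
      · exact (Subgroup.normalizer_eq_top_iff.2 inferInstance).ge
      · intro E hE
        rcases hess E hE with h | h
        · subst h; exact absurd hE hEa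
        · subst h; exact absurd hE hEb
      · exact ⟨le_rfl, fun γ _ e _ => Subgroup.mem_top _⟩
where
  one_ess (hTI : StTI.{u}) (hK : HypG K p n) (hq : 2 < p ^ n) {F : FusionSystem (⊤ : Subgroup (GU K))}
      (hF : F.IsSaturated p) {Q : Subgroup (GU K)} (hQ : Q = Qa K ∨ Q = Qb K) (hE : F.IsEssential p Q)
      (hu : ∀ E, F.IsEssential p E → E = Q) : F.IsRealizable p := by
    have : Fact p.Prime := ⟨hK.pp⟩
    have hfin : Finite (GU K) := finite_GU hK
    have hS := isP hK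
    obtain ⟨-, hC, hne, -, hmap⟩ := hTI hK hq Q hQ
    refine Cfsg.Agent.H546.PU.stCon F Q hS hF le_top (top_le_norm Q hQ) hC hu ⟨le_top, fun γ hγ e he => ?_⟩
    have hβ : MulAut.congr Subgroup.topEquiv γ ∈ AF F := ⟨γ, hγ, rfl⟩
    have h1 : Q.map (MulAut.congr Subgroup.topEquiv γ : MulAut (GU K)).toMonoidHom = Q := by
      apply hu
      exact ess_of_norm hTI hK hq hF (hmap _) (not_norm_map hβ rfl (norm_of_ess hK hF hE))
    have h2 : (MulAut.congr Subgroup.topEquiv γ) (e : GU K) ∈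
        Q.map (MulAut.congr Subgroup.topEquiv γ : MulAut (GU K)).toMonoidHom := ⟨_, he, rfl⟩
    rw [h1] at h2
    exact h2

/-! ### the torus -/

omit [Field K] in
theorem tor_unique [Field K] {α β : MulAut (GU K)} {s t : K} {τ : K ≃+* K} (h : IsTor α s t τ) (h' : IsTor β s t τ) :
    α = β :=
  ext_aut fun g => ⟨by rw [h.a, h'.a], by rw [h.b, h'.b], by rw [h.c, h'.c], by rw [h.d, h'.d], by rw [h.e, h'.e],
    by rw [h.f, h'.f]⟩

/-- the cocharacters `t ↦ (t⁻¹, t²)` and `t ↦ (t², t⁻³)` generate the torus -/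
theorem full_of {D : Subgroup (MulAut (GU K))} (h1 : HasTor D (fun t => t⁻¹) (fun t => t ^ 2))
    (h2 : HasTor D (fun t => t ^ 2) (fun t => (t ^ 3)⁻¹)) : Full D := by
  intro s t α hα
  have hs := hα.ne1
  have ht := hα.ne2
  have hu : s ^ 3 * t ^ 2 ≠ 0 := mul_ne_zero (pow_ne_zero _ hs) (pow_ne_zero _ ht)
  have hv : s ^ 2 * t ≠ 0 := mul_ne_zero (pow_ne_zero _ hs) ht
  obtain ⟨β, hβ⟩ := exists_tor (s := (s ^ 3 * t ^ 2)⁻¹) (t := (s ^ 3 * t ^ 2) ^ 2) (RingEquiv.refl K)
    (inv_ne_zero hu) (pow_ne_zero _ hu)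
  obtain ⟨δ, hδ⟩ := exists_tor (s := (s ^ 2 * t) ^ 2) (t := ((s ^ 2 * t) ^ 3)⁻¹) (RingEquiv.refl K)
    (pow_ne_zero _ hv) (inv_ne_zero (pow_ne_zero _ hv))
  have h3 := tor_mul hβ hδ
  have e : α = β * δ := by
    refine tor_unique (τ := RingEquiv.refl K) (s := s) (t := t) hα ?_
    convert h3 using 1
    · show s = (s ^ 3 * t ^ 2)⁻¹ * (s ^ 2 * t) ^ 2
      field_simp
    · show t = (s ^ 3 * t ^ 2) ^ 2 * ((s ^ 2 * t) ^ 3)⁻¹
      field_simp
    · exact RingEquiv.ext fun _ => rfl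
  rw [e]
  exact D.mul_mem (h1 _ hu β hβ) (h2 _ hv δ hδ)

/-! ### Weyl elements do not normalize `Aut_S(Q)` -/

theorem not_norm_wb {γ : MulAut (Qb K)} (h : IsWb γ) : ¬ NormAut ⊤ γ := by
  intro hn
  let c : MulAut (Qb K) := MulAut.conjNormal (x2 (1 : K))
  have hc : ∀ y : Qb K, ((c y : Qb K) : GU K) = x2 1 * (y : GU K) * (x2 1)⁻¹ := fun y => MulAut.conjNormal_apply _ _
  have hcm : c ∈ autInducedBy ⊤ (Qb K) :=
    (mem_autInducedBy_iff _ _ _).2 ⟨x2 1, Subgroup.mem_top _, fun y => by rw [hc]⟩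
  obtain ⟨g, -, hg⟩ := (mem_autInducedBy_iff _ _ _).1 (hn c hcm)
  have h1 := congrArg GU.a (hg (γ ⟨x1 1, x1_mem 1⟩))
  rw [cj_a, MulAut.mul_apply, MulAut.mul_apply, MulAut.inv_apply_self, h.a, h.a, hc, cj_c] at h1
  simp [x1, x2] at h1

theorem not_norm_wa {γ : MulAut (Qa K)} (h : IsWa γ) : ¬ NormAut ⊤ γ := by
  intro hn
  let c : MulAut (Qa K) := MulAut.conjNormal (x1 (1 : K))
  have hc : ∀ y : Qa K, ((c y : Qa K) : GU K) = x1 1 * (y : GU K) * (x1 1)⁻¹ := fun y => MulAut.conjNormal_apply _ _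
  have hcm : c ∈ autInducedBy ⊤ (Qa K) :=
    (mem_autInducedBy_iff _ _ _).2 ⟨x1 1, Subgroup.mem_top _, fun y => by rw [hc]⟩
  obtain ⟨g, -, hg⟩ := (mem_autInducedBy_iff _ _ _).1 (hn c hcm)
  have h1 := congrArg GU.b (hg (γ ⟨x2 1, x2_mem 1⟩))
  rw [cj_b, MulAut.mul_apply, MulAut.mul_apply, MulAut.inv_apply_self, h.b, h.b, hc, cj_e] at h1
  simp [x1, x2] at h1

/-! ### the main case -/

theorem stMainBig_of (H : Pieces.{u}) (hLb : StLb.{u}) (hLa : StLa.{u}) (hR : StReal.{u}) : StMainBig.{u} := by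
  intro K _ p n _ hK hq F hF _
  have hq2 : 2 < p ^ n := by omega
  have h7 : ¬ (p = 7 ∧ n = 1) := by
    rintro ⟨rfl, rfl⟩
    norm_num at hq
  refine red_of H hK hq2 h7 ?_ F hF
  intro F hF hEa hEb hess D hD hDc hAF
  obtain ⟨tb, gb⟩ := hLb hK (by omega) _ D (par_of hK hF (Or.inr rfl) (norm_of_ess hK hF hEb) hD hDc hAF)
  obtain ⟨ta, ga⟩ := hLa hK hq _ D (par_of hK hF (Or.inl rfl) (norm_of_ess hK hF hEa) hD hDc hAF)
  have hfull := full_of tb ta
  obtain ⟨F', hF', hReal, hAF', hwa, hwb⟩ := hR hK D hD hDc hfull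
  have hfin : Finite K := hK.fin
  obtain ⟨wa, hwa'⟩ := exists_wa (K := K)
  obtain ⟨wb, hwb'⟩ := exists_wb (K := K)
  have Na' : ¬ ∀ γ ∈ F'.autGroup (Qa K), NormAut ⊤ γ := fun h => not_norm_wa hwa' (h wa (hwa wa hwa'))
  have Nb' : ¬ ∀ γ ∈ F'.autGroup (Qb K), NormAut ⊤ γ := fun h => not_norm_wb hwb' (h wb (hwb wb hwb'))
  obtain ⟨-, gb'⟩ := hLb hK (by omega) _ D (par_of hK hF' (Or.inr rfl) Nb' hD hDc hAF')
  obtain ⟨-, ga'⟩ := hLa hK hq _ D (par_of hK hF' (Or.inl rfl) Na' hD hDc hAF')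
  have hsame := Cfsg.Agent.H546.PU.stSame F F' (Qa K) (Qb K) (isP hK) hF hF' le_top le_top
    hess (fun E hE => ess_cases H hK hq2 h7 hF' hE)
    (autGroup_top_eq_of_AF (hAF.trans hAF'.symm))
    ((ga hfull).trans (ga' hfull).symm) ((gb hfull).trans (gb' hfull).symm)
  rw [fusionSystem_ext hsame]
  exact hReal

end

/-! ### the final step -/

/-- transport to the whole group, keeping `O_p(F) = 1` -/
theorem trans_core {Ω : Type u} [Group Ω] {S : Subgroup Ω} [Finite S] {p : ℕ} [Fact p.Prime] (F : FusionSystem S)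
    {G0 : Type v} [Group G0] (e : S ≃* G0) (hF : F.IsSaturated p) (hcore : F.core = ⊥) :
    ∃ F' : FusionSystem (⊤ : Subgroup G0), F'.IsSaturated p ∧ F'.core = ⊥ ∧ (F'.IsRealizable p → F.IsRealizable p) := by
  let f : G0 →* Ω := S.subtype.comp e.symm.toMonoidHom
  have hf : Function.Injective f := (Subgroup.subtype_injective S).comp e.symm.injective
  have hS : S = (⊤ : Subgroup G0).map f := by
    ext x
    constructor
    · intro hx
      refine ⟨e ⟨x, hx⟩, Subgroup.mem_top _, ?_⟩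
      show ((e.symm (e ⟨x, hx⟩) : S) : Ω) = x
      rw [e.symm_apply_apply]
    · rintro ⟨y, -, rfl⟩
      exact (e.symm y).2
  have : Finite G0 := Finite.of_equiv _ e.toEquiv
  obtain ⟨F', hF'⟩ := Cfsg.Agent.H759.exists_pull' (hf := hf) hS F
  refine ⟨F', hF'.isSaturated_iff.1 hF, ?_, Cfsg.Agent.H776.Co.isRealizable_push hF'⟩
  have h1 := hF'.core_eq
  rw [hcore] at h1
  exact (Subgroup.map_eq_bot_iff_of_injective _ hf).1 h1.symm

/-- S5211 from the pieces -/
theorem final_of (hSyl : StSyl.{0}) (hBig : StMainBig.{0}) (h5 : StMain5.{0}) (h4 : StMain4.{0}) (h3 : StMain3.{0})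
    (h2 : StMain2.{0}) {Ω : Type u} [Group Ω] {S : Subgroup Ω} [Finite S] (p : ℕ) [Fact p.Prime]
    (F : Cfsg.FusionSystem S) (hF : F.IsSaturated p) (n : ℕ) (hn : n ≠ 0) (h7 : ¬ (p = 7 ∧ n = 1))
    (T : Sylow p ↥(Cfsg.Lie.G2 (GaloisField p n))) (e : ↥S ≃* ↥(T : Subgroup ↥(Cfsg.Lie.G2 (GaloisField p n))))
    (hcore : F.core = ⊥) : F.IsRealizable p := by
  have hp : p.Prime := Fact.out
  have hK : HypG (GaloisField p n) p n := ⟨hp, by omega, inferInstance, GaloisField.card p n hn, inferInstance⟩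
  obtain ⟨e'⟩ := hSyl hK T
  obtain ⟨F', hF', hc', hR⟩ := trans_core F (e.trans e') hF hcore
  apply hR
  rcases Nat.lt_or_ge (p ^ n) 8 with h8 | h8
  · have hp8 : p < 8 := lt_of_le_of_lt (by simpa using Nat.pow_le_pow_right hp.pos (show 1 ≤ n by omega)) h8
    have hn3 : n < 3 := by
      by_contra hcon
      have h1 : 2 ^ 3 ≤ p ^ n := le_trans (Nat.pow_le_pow_left hp.two_le 3) (Nat.pow_le_pow_right hp.pos (by omega))
      omega
    interval_cases p
    · exact absurd hp (by norm_num)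
    · exact absurd hp (by norm_num)
    · interval_cases n
      · exact absurd rfl hn
      · exact h2 hK ⟨rfl, rfl⟩ F' hF' hc'
      · exact h4 hK ⟨rfl, rfl⟩ F' hF' hc'
    · interval_cases n
      · exact absurd rfl hn
      · exact h3 hK ⟨rfl, rfl⟩ F' hF' hc'
      · norm_num at h8
    · exact absurd hp (by norm_num)
    · interval_cases n
      · exact absurd rfl hn
      · exact h5 hK ⟨rfl, rfl⟩ F' hF' hc'
      · norm_num at h8
    · exact absurd hp (by norm_num)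
    · interval_cases n
      · exact absurd rfl hn
      · exact absurd ⟨rfl, rfl⟩ h7
      · norm_num at h8
  · exact hBig hK h8 F' hF' hc'

end Cfsg.Agent.H103.GT
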