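import Cfsg.Agent.H103.GT.Main
import Cfsg.Agent.H24.Q5.Fus

/-!
# S5211, `q = 5`: `StGood` (helper103)

A core-free saturated fusion system over `U5` is, after a twist by an automorphism of `U5`, `Good`.
-/

set_option autoImplicit false

namespace Cfsg.Agent.H103.GT

open Cfsg Cfsg.FusionSystem Cfsg.Agent.H779.G2 Cfsg.Agent.H756.PU Cfsg.Agent.H802 Cfsg.Agent.H759 Cfsg.Agent.H24.Q5

universe u

/-- the inverse of a push along an automorphism -/
theorem push_symm {G0 : Type u} [Group G0] {F F' : FusionSystem (⊤ : Subgroup G0)} {θ ρ : MulAut G0} (hρ : ρ * θ = 1)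
    (h1 : Function.Injective ρ.toMonoidHom) (h2 : Function.Injective θ.toMonoidHom) (h : IsPush h1 F' F) :
    IsPush h2 F F' := by
  have key : ∀ (P Q : Subgroup G0) (φ : P →* G0) (ψ : Q →* G0), Q = P →
      (∀ (x : G0) (hx : x ∈ P) (hx' : x ∈ Q), φ ⟨x, hx⟩ = ψ ⟨x, hx'⟩) → (φ ∈ F.Hom P ↔ ψ ∈ F.Hom Q) := by
    rintro P Q φ ψ rfl he
    have : φ = ψ := MonoidHom.ext fun x => he x x.2 x.2
    rw [this]
  have hap : ∀ x : G0, ρ.toMonoidHom (θ.toMonoidHom x) = x := fun x => by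
    show (ρ * θ) x = x
    rw [hρ]; rfl
  refine ⟨(Subgroup.map_top_of_surjective _ θ.surjective).symm, fun P φ => ?_⟩
  rw [← h.hom (P.map θ.toMonoidHom) (cb h2 φ)]
  refine (key P _ φ _ ?_ ?_).symm
  · rw [Subgroup.map_map]
    have : ρ.toMonoidHom.comp θ.toMonoidHom = MonoidHom.id _ := MonoidHom.ext hap
    rw [this, Subgroup.map_id]
  · intro x hx hx'
    have e1 : (⟨x, hx'⟩ : ↥((P.map θ.toMonoidHom).map ρ.toMonoidHom)) =
        eqv h1 (P.map θ.toMonoidHom) (eqv h2 P ⟨x, hx⟩) := by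
      apply Subtype.ext
      rw [coe_eqv, coe_eqv]
      exact (hap x).symm
    rw [e1, cb_eqv, cb_eqv, hap]

/-- twisting, keeping `O_p(F) = 1`, with the automizers -/
theorem twist_full {G0 : Type u} [Group G0] [Finite G0] {p : ℕ} [Fact p.Prime] (F : FusionSystem (⊤ : Subgroup G0))
    (θ : MulAut G0) (hF : F.IsSaturated p) (hcore : F.core = ⊥) :
    ∃ F' : FusionSystem (⊤ : Subgroup G0), F'.IsSaturated p ∧ F'.core = ⊥ ∧ (F'.IsRealizable p ↔ F.IsRealizable p) ∧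
      AF F' = (AF F).map (MulAut.conj θ).toMonoidHom ∧
      (∀ E : Subgroup G0, F.IsEssential p E ↔ F'.IsEssential p (E.map θ.toMonoidHom)) ∧
      ∀ P : Subgroup G0, P.map (θ⁻¹ : MulAut G0).toMonoidHom = P →
        Nat.card (F'.autGroup P) = Nat.card (F.autGroup P) := by
  have hinj : Function.Injective (θ⁻¹ : MulAut G0).toMonoidHom := (θ⁻¹ : MulAut G0).injective
  have htop : (⊤ : Subgroup G0) = (⊤ : Subgroup G0).map (θ⁻¹ : MulAut G0).toMonoidHom :=
    (Subgroup.map_top_of_surjective _ (θ⁻¹ : MulAut G0).surjective).symm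
  obtain ⟨F', hF'⟩ := Cfsg.Agent.H759.exists_pull' (hf := hinj) htop F
  refine ⟨F', hF'.isSaturated_iff.1 hF, ?_, ⟨Cfsg.Agent.H776.Co.isRealizable_push hF', ?_⟩, ?_, fun E => ?_, ?_⟩
  · have h1 := hF'.core_eq
    rw [hcore] at h1
    exact (Subgroup.map_eq_bot_iff_of_injective _ hinj).1 h1.symm
  · have hθ : Function.Injective θ.toMonoidHom := θ.injective
    exact Cfsg.Agent.H776.Co.isRealizable_push (push_symm (inv_mul_cancel θ) hinj hθ hF')
  · rw [Cfsg.Agent.H805.PU.AF_push hF', Subgroup.map_map]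
    have : (MulAut.conj θ).toMonoidHom.comp (MulAut.conj θ⁻¹).toMonoidHom = MonoidHom.id _ := by
      ext x
      simp [MulAut.conj_apply, mul_assoc]
    rw [this, Subgroup.map_id]
  · rw [← Cfsg.Agent.H805.PU.isEssential_iff hF', Subgroup.map_map]
    have : (θ⁻¹ : MulAut G0).toMonoidHom.comp θ.toMonoidHom = MonoidHom.id _ := by
      ext x
      show θ⁻¹ (θ x) = x
      exact MulAut.inv_apply_self _ _ _
    rw [this, Subgroup.map_id]
  · intro P hP
    obtain ⟨e, -⟩ := Cfsg.Agent.H805.PU.exists_autEquiv hF' P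
    rw [hP] at e
    exact Nat.card_congr e.toEquiv

/-- (GOOD) -/
theorem stGood_of (H : Pieces.{0}) : StGood := by
  intro F hF hcore
  have hK : HypG (ZMod 5) 5 1 := ⟨by norm_num, le_rfl, inferInstance, by simp, inferInstance⟩
  have hq2 : 2 < 5 ^ 1 := by norm_num
  have h7 : ¬ ((5 : ℕ) = 7 ∧ 1 = 1) := by norm_num
  have h3 : (5 : ℕ) ≠ 3 := by norm_num
  have h2 : (5 : ℕ) ≠ 2 := by norm_num
  have hfin : Finite (GU (ZMod 5)) := finite_GU hK
  have hS := isP hK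
  have hess : ∀ (F : FusionSystem (⊤ : Subgroup U5)), F.IsSaturated 5 → ∀ E, F.IsEssential 5 E →
    E = Qa (ZMod 5) ∨ E = Qb (ZMod 5) := fun F hF E hE => ess_cases H hK hq2 h7 hF hE
  have hmap : ∀ Q : Subgroup U5, (Q = Qa (ZMod 5) ∨ Q = Qb (ZMod 5)) → ∀ α : MulAut U5, Q.map α.toMonoidHom = Q :=
    fun Q hQ => (H.ti hK hq2 Q hQ).2.2.2.1 h3
  -- both are essential
  have both : ∀ (F : FusionSystem (⊤ : Subgroup U5)), F.IsSaturated 5 → F.core = ⊥ →
      ∀ Q : Subgroup U5, (Q = Qa (ZMod 5) ∨ Q = Qb (ZMod 5)) → F.IsEssential 5 Q := by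
    intro F hF hcore Q hQ
    by_contra hne
    obtain ⟨Q', hQ', hu⟩ : ∃ Q' : Subgroup U5, (Q' = Qa (ZMod 5) ∨ Q' = Qb (ZMod 5)) ∧
        ∀ E, F.IsEssential 5 E → E = Q' ∨ E = Q' := by
      rcases hQ with rfl | rfl
      · exact ⟨_, Or.inr rfl, fun E hE => Or.inl ((hess F hF E hE).resolve_left (by rintro rfl; exact hne hE))⟩
      · exact ⟨_, Or.inl rfl, fun E hE => Or.inl ((hess F hF E hE).resolve_right (by rintro rfl; exact hne hE))⟩
    have hne' : Q' ≠ ⊥ := by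
      intro h
      have hx : x6 (1 : ZMod 5) ∈ Q' := by
        rcases hQ' with rfl | rfl
        · exact Z2_le_Qa (Z1_le_Z2 (x6_mem 1))
        · exact Z2_le_Qb (Z1_le_Z2 (x6_mem 1))
      rw [h] at hx
      have h2 := congrArg GU.f (Subgroup.mem_bot.1 hx)
      simp [x6] at h2
    refine core_contra hS hF hcore hu hne' ⟨le_rfl, fun γ _ e _ => (γ e).2⟩ ⟨le_rfl, fun γ _ e _ => (γ e).2⟩
      ⟨le_top, fun γ hγ e he => ?_⟩
    have h1 : (MulAut.congr Subgroup.topEquiv γ) (e : U5) ∈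
        Q'.map (MulAut.congr Subgroup.topEquiv γ : MulAut U5).toMonoidHom := ⟨_, he, rfl⟩
    rw [hmap Q' hQ'] at h1
    exact h1
  obtain ⟨D0, hD0, hD0e⟩ := Cfsg.Agent.H805.PU.stCompl F hS hF
  obtain ⟨θ, hθ⟩ := H.pos hK hq2 D0 hD0
  obtain ⟨F', hF', hcore', hR, hAF', hess', hcard⟩ := twist_full F θ hF hcore
  have hAF : AF F' = (MulAut.conj : U5 →* MulAut U5).range ⊔ D0.map (MulAut.conj θ).toMonoidHom := by
    rw [hAF', ← hD0e, Subgroup.map_sup, map_conj_range]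
  have hD : D0.map (MulAut.conj θ).toMonoidHom ≤ TT (ZMod 5) := by
    rintro _ ⟨d, hd, rfl⟩
    exact hθ d hd
  have hDc : (Nat.card (D0.map (MulAut.conj θ).toMonoidHom)).Coprime 5 := by
    have : Nat.card (D0.map (MulAut.conj θ).toMonoidHom) = Nat.card D0 :=
      (Nat.card_congr (D0.equivMapOfInjective _ (MulAut.conj θ).injective).toEquiv).symm
    rwa [this]
  refine ⟨F', D0.map (MulAut.conj θ).toMonoidHom, ⟨hF', hess F' hF', hAF, ?_, ?_, ?_, ?_⟩, hR,
    hcard A5 (hmap _ (Or.inl rfl) _)⟩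
  · exact par_of hK hF' (Or.inl rfl) (norm_of_ess hK hF' (both F' hF' hcore' _ (Or.inl rfl))) hD hDc hAF
  · exact par_of hK hF' (Or.inr rfl) (norm_of_ess hK hF' (both F' hF' hcore' _ (Or.inr rfl))) hD hDc hAF
  · exact not_inv_Z2 H.ti hK hq2 h3 hF' hcore' (hess F' hF')
  · exact not_inv_Z3 H.ti hK hq2 h2 h3 hF' hcore' (hess F' hF')

end Cfsg.Agent.H103.GT
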