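import Cfsg.Agent.H779.G2.Stmts

/-!
# S5211: the group `GU K` and its automorphisms (`StGrp`), helper103

* `GU.mkAut` : automorphisms of subgroups / of `GU K` from injective homomorphisms;
* `exists_tor`, `exists_gr`, `exists_wb`, `exists_wa`;
* `tor_mul`, `gr_tor`, `gr_gr`, `mem_TT`;
* `stGrp : StGrp`.
-/

set_option autoImplicit false

namespace Cfsg.Agent.H103.GT

open Cfsg Cfsg.Agent.H779.G2

universe u

variable {K : Type u} [Field K]

/-- the underlying map of a torus / field automorphism -/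
def torMap (s t : K) (τ : K ≃+* K) (g : GU K) : GU K :=
  ⟨s * τ g.a, t * τ g.b, s * t * τ g.c, s ^ 2 * t * τ g.d, s ^ 3 * t * τ g.e, s ^ 3 * t ^ 2 * τ g.f⟩

theorem torMap_mul (s t : K) (τ : K ≃+* K) (x y : GU K) : torMap s t τ (x * y) = torMap s t τ x * torMap s t τ y := by
  ext
  · simp only [torMap, GU.mul_a, map_add]; ring
  · simp only [torMap, GU.mul_b, map_add]; ring
  · simp only [torMap, GU.mul_c, map_add, map_mul]; ring
  · simp only [torMap, GU.mul_d, map_add, map_mul, map_pow, map_ofNat]; ring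
  · simp only [torMap, GU.mul_e, map_add, map_mul, map_pow, map_ofNat]; ring
  · simp only [torMap, GU.mul_f, map_add, map_sub, map_mul, map_pow, map_ofNat]; ring

/-- torus and field automorphisms exist -/
theorem exists_tor {s t : K} (τ : K ≃+* K) (hs : s ≠ 0) (ht : t ≠ 0) : ∃ α : MulAut (GU K), IsTor α s t τ := by
  have hst : s * t ≠ 0 := mul_ne_zero hs ht
  have h2 : s ^ 2 * t ≠ 0 := mul_ne_zero (pow_ne_zero _ hs) ht
  have h3 : s ^ 3 * t ≠ 0 := mul_ne_zero (pow_ne_zero _ hs) ht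
  have h4 : s ^ 3 * t ^ 2 ≠ 0 := mul_ne_zero (pow_ne_zero _ hs) (pow_ne_zero _ ht)
  let α : MulAut (GU K) :=
    { toFun := torMap s t τ
      invFun := fun g => ⟨τ.symm (s⁻¹ * g.a), τ.symm (t⁻¹ * g.b), τ.symm ((s * t)⁻¹ * g.c), τ.symm ((s ^ 2 * t)⁻¹ * g.d),
        τ.symm ((s ^ 3 * t)⁻¹ * g.e), τ.symm ((s ^ 3 * t ^ 2)⁻¹ * g.f)⟩
      left_inv := fun g => by
        ext
        · show τ.symm (s⁻¹ * (s * τ g.a)) = g.a
          rw [inv_mul_cancel_left₀ hs, RingEquiv.symm_apply_apply]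
        · show τ.symm (t⁻¹ * (t * τ g.b)) = g.b
          rw [inv_mul_cancel_left₀ ht, RingEquiv.symm_apply_apply]
        · show τ.symm ((s * t)⁻¹ * (s * t * τ g.c)) = g.c
          rw [inv_mul_cancel_left₀ hst, RingEquiv.symm_apply_apply]
        · show τ.symm ((s ^ 2 * t)⁻¹ * (s ^ 2 * t * τ g.d)) = g.d
          rw [inv_mul_cancel_left₀ h2, RingEquiv.symm_apply_apply]
        · show τ.symm ((s ^ 3 * t)⁻¹ * (s ^ 3 * t * τ g.e)) = g.e
          rw [inv_mul_cancel_left₀ h3, RingEquiv.symm_apply_apply]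
        · show τ.symm ((s ^ 3 * t ^ 2)⁻¹ * (s ^ 3 * t ^ 2 * τ g.f)) = g.f
          rw [inv_mul_cancel_left₀ h4, RingEquiv.symm_apply_apply]
      right_inv := fun g => by
        ext
        · show s * τ (τ.symm (s⁻¹ * g.a)) = g.a
          rw [RingEquiv.apply_symm_apply, mul_inv_cancel_left₀ hs]
        · show t * τ (τ.symm (t⁻¹ * g.b)) = g.b
          rw [RingEquiv.apply_symm_apply, mul_inv_cancel_left₀ ht]
        · show s * t * τ (τ.symm ((s * t)⁻¹ * g.c)) = g.c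
          rw [RingEquiv.apply_symm_apply, mul_inv_cancel_left₀ hst]
        · show s ^ 2 * t * τ (τ.symm ((s ^ 2 * t)⁻¹ * g.d)) = g.d
          rw [RingEquiv.apply_symm_apply, mul_inv_cancel_left₀ h2]
        · show s ^ 3 * t * τ (τ.symm ((s ^ 3 * t)⁻¹ * g.e)) = g.e
          rw [RingEquiv.apply_symm_apply, mul_inv_cancel_left₀ h3]
        · show s ^ 3 * t ^ 2 * τ (τ.symm ((s ^ 3 * t ^ 2)⁻¹ * g.f)) = g.f
          rw [RingEquiv.apply_symm_apply, mul_inv_cancel_left₀ h4]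
      map_mul' := torMap_mul s t τ }
  exact ⟨α, hs, ht, fun _ => rfl, fun _ => rfl, fun _ => rfl, fun _ => rfl, fun _ => rfl, fun _ => rfl⟩

/-- the underlying map of the graph automorphism -/
def grMap (g : GU K) : GU K :=
  ⟨g.b, g.a ^ 3, g.a ^ 3 * g.b - g.e, g.a ^ 3 * g.b ^ 2 - g.f, g.a ^ 3 * g.b ^ 3 - g.c ^ 3, g.a ^ 6 * g.b ^ 3 - g.d ^ 3⟩

set_option maxHeartbeats 1000000 in
theorem grMap_mul (h3 : (3 : K) = 0) (x y : GU K) : grMap (x * y) = grMap x * grMap y := by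
  ext
  · simp only [grMap, GU.mul_a, GU.mul_b, GU.mul_c, GU.mul_d, GU.mul_e, GU.mul_f]
  · simp only [grMap, GU.mul_a, GU.mul_b, GU.mul_c, GU.mul_d, GU.mul_e, GU.mul_f]
    linear_combination ((1) * x.a * y.a ^ 2 + (1) * x.a ^ 2 * y.a) * h3
  · simp only [grMap, GU.mul_a, GU.mul_b, GU.mul_c, GU.mul_d, GU.mul_e, GU.mul_f]
    linear_combination ((1) * x.a * x.b * y.a ^ 2 + (1) * x.a * y.a ^ 2 * y.b + (1) * x.a ^ 2 * x.b * y.a + (1) * x.a ^ 2 * y.a * y.b + (-1) * x.c * y.a ^ 2 + (-1) * x.d * y.a) * h3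
  · simp only [grMap, GU.mul_a, GU.mul_b, GU.mul_c, GU.mul_d, GU.mul_e, GU.mul_f]
    linear_combination ((2) * x.a * x.b * y.a ^ 2 * y.b + (1) * x.a * x.b ^ 2 * y.a ^ 2 + (1) * x.a * y.a ^ 2 * y.b ^ 2 + (2) * x.a ^ 2 * x.b * y.a * y.b + (1) * x.a ^ 2 * x.b ^ 2 * y.a + (1) * x.a ^ 2 * y.a * y.b ^ 2 + (-1) * x.b * x.c * y.a ^ 2 + (-1) * x.b * y.a ^ 2 * y.c + (1) * x.b * y.a ^ 3 * y.b + (-2) * x.c * y.a * y.c + (1) * x.c * y.a ^ 2 * y.b + (-1) * x.c ^ 2 * y.a + (1) * x.d * y.a * y.b + (-1) * x.d * y.c + (1) * x.e * y.b) * h3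
  · simp only [grMap, GU.mul_a, GU.mul_b, GU.mul_c, GU.mul_d, GU.mul_e, GU.mul_f]
    linear_combination ((3) * x.a * x.b * y.a ^ 2 * y.b ^ 2 + (3) * x.a * x.b ^ 2 * y.a ^ 2 * y.b + (1) * x.a * x.b ^ 3 * y.a ^ 2 + (1) * x.a * y.a ^ 2 * y.b ^ 3 + (3) * x.a ^ 2 * x.b * y.a * y.b ^ 2 + (3) * x.a ^ 2 * x.b ^ 2 * y.a * y.b + (1) * x.a ^ 2 * x.b ^ 3 * y.a + (1) * x.a ^ 2 * y.a * y.b ^ 3 + (-2) * x.b * x.c * y.a * y.c + (-1) * x.b * x.c ^ 2 * y.a + (-1) * x.b * y.a * y.c ^ 2 + (1) * x.b * y.a ^ 3 * y.b ^ 2 + (-1) * x.b ^ 2 * x.c * y.a ^ 2 + (-1) * x.b ^ 2 * y.a ^ 2 * y.c + (1) * x.b ^ 2 * y.a ^ 3 * y.b + (-1) * x.c * y.c ^ 2 + (-1) * x.c ^ 2 * y.c + (1) * x.e * y.b ^ 2 + (1) * x.f * y.b) * h3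
  · simp only [grMap, GU.mul_a, GU.mul_b, GU.mul_c, GU.mul_d, GU.mul_e, GU.mul_f]
    linear_combination ((6) * x.a * x.b * y.a ^ 5 * y.b ^ 2 + (6) * x.a * x.b ^ 2 * y.a ^ 5 * y.b + (2) * x.a * x.b ^ 3 * y.a ^ 5 + (2) * x.a * y.a ^ 5 * y.b ^ 3 + (15) * x.a ^ 2 * x.b * y.a ^ 4 * y.b ^ 2 + (15) * x.a ^ 2 * x.b ^ 2 * y.a ^ 4 * y.b + (5) * x.a ^ 2 * x.b ^ 3 * y.a ^ 4 + (5) * x.a ^ 2 * y.a ^ 4 * y.b ^ 3 + (2) * x.a ^ 3 * x.b * x.e * y.b + (19) * x.a ^ 3 * x.b * y.a ^ 3 * y.b ^ 2 + (2) * x.a ^ 3 * x.b * y.b * y.e + (20) * x.a ^ 3 * x.b ^ 2 * y.a ^ 3 * y.b + (1) * x.a ^ 3 * x.b ^ 2 * y.e + (7) * x.a ^ 3 * x.b ^ 3 * y.a ^ 3 + (1) * x.a ^ 3 * x.e * y.b ^ 2 + (6) * x.a ^ 3 * y.a ^ 3 * y.b ^ 3 + (1) * x.a ^ 3 * y.b ^ 2 * y.e + (15) * x.a ^ 4 * x.b * y.a ^ 2 * y.b ^ 2 + (15) * x.a ^ 4 * x.b ^ 2 * y.a ^ 2 * y.b + (5) * x.a ^ 4 * x.b ^ 3 * y.a ^ 2 + (5) * x.a ^ 4 * y.a ^ 2 * y.b ^ 3 + (6) * x.a ^ 5 * x.b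 * y.a * y.b ^ 2 + (6) * x.a ^ 5 * x.b ^ 2 * y.a * y.b + (2) * x.a ^ 5 * x.b ^ 3 * y.a + (2) * x.a ^ 5 * y.a * y.b ^ 3 + (-4) * x.b * x.c * x.d * y.a ^ 3 + (-4) * x.b * x.c * y.a ^ 3 * y.d + (-4) * x.b * x.c ^ 2 * y.a ^ 4 + (-2) * x.b * x.d * y.a ^ 2 * y.d + (-1) * x.b * x.d ^ 2 * y.a ^ 2 + (-1) * x.b * y.a ^ 2 * y.d ^ 2 + (1) * x.b * y.a ^ 6 * y.b ^ 2 + (-2) * x.b ^ 2 * x.c * y.a ^ 5 + (-1) * x.b ^ 2 * x.d * y.a ^ 4 + (-1) * x.b ^ 2 * y.a ^ 4 * y.d + (1) * x.b ^ 2 * y.a ^ 6 * y.b + (-4) * x.c * x.d * y.a * y.d + (-2) * x.c * x.d ^ 2 * y.a + (-2) * x.c * y.a * y.d ^ 2 + (-4) * x.c ^ 2 * x.d * y.a ^ 2 + (-4) * x.c ^ 2 * y.a ^ 2 * y.d + (-3) * x.c ^ 3 * y.a ^ 3 + (-1) * x.d * y.d ^ 2 + (-1) * x.d ^ 2 * y.d + (1) * x.e * y.a ^ 3 * y.b ^ 2 + (-2) * x.e * y.b * y.e + (-1) * x.e ^ 2 * y.b + (-1) * x.f * y.e) * h3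

/-- an injective endomorphism of a finite group -/
noncomputable def mkAut {G : Type*} [Group G] [Finite G] (f : G → G) (hm : ∀ x y, f (x * y) = f x * f y)
    (h1 : ∀ x, f x = 1 → x = 1) : MulAut G :=
  MulEquiv.ofBijective (MonoidHom.mk' f hm)
    (Finite.injective_iff_bijective.1 ((injective_iff_map_eq_one (MonoidHom.mk' f hm)).2 h1))

theorem mkAut_apply {G : Type*} [Group G] [Finite G] (f : G → G) (hm : ∀ x y, f (x * y) = f x * f y)
    (h1 : ∀ x, f x = 1 → x = 1) (x : G) : mkAut f hm h1 x = f x := rfl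

/-- the graph automorphism exists in characteristic `3` -/
theorem exists_gr [Finite K] (h3 : (3 : K) = 0) : ∃ α : MulAut (GU K), IsGr α := by
  refine ⟨mkAut grMap (grMap_mul h3) ?_, h3, fun _ => rfl, fun _ => rfl, fun _ => rfl, fun _ => rfl, fun _ => rfl,
    fun _ => rfl⟩
  intro x hx
  have hb : x.b = 0 := congrArg GU.a hx
  have ha : x.a = 0 := by
    have h : x.a ^ 3 = 0 := congrArg GU.b hx
    exact pow_eq_zero_iff (by norm_num) |>.1 h
  have he : x.e = 0 := by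
    have h : x.a ^ 3 * x.b - x.e = 0 := congrArg GU.c hx
    rw [ha, hb] at h
    linear_combination -h
  have hf : x.f = 0 := by
    have h : x.a ^ 3 * x.b ^ 2 - x.f = 0 := congrArg GU.d hx
    rw [ha, hb] at h
    linear_combination -h
  have hc : x.c = 0 := by
    have h : x.a ^ 3 * x.b ^ 3 - x.c ^ 3 = 0 := congrArg GU.e hx
    rw [ha, hb] at h
    exact pow_eq_zero_iff (n := 3) (by norm_num) |>.1 (by linear_combination -h)
  have hd : x.d = 0 := by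
    have h : x.a ^ 6 * x.b ^ 3 - x.d ^ 3 = 0 := congrArg GU.f hx
    rw [ha, hb] at h
    exact pow_eq_zero_iff (n := 3) (by norm_num) |>.1 (by linear_combination -h)
  ext <;> assumption

/-! ### Weyl elements -/

/-- the long Weyl element on `Q_b` -/
def wbMap (g : Qb K) : Qb K :=
  ⟨⟨-(g : GU K).c, 0, (g : GU K).a, (g : GU K).d - 2 * (g : GU K).a * (g : GU K).c,
    -(g : GU K).f + 3 * (g : GU K).a * (g : GU K).c ^ 2, (g : GU K).e - 3 * (g : GU K).a ^ 2 * (g : GU K).c⟩, rfl⟩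

theorem wbMap_mul (x y : Qb K) : wbMap (x * y) = wbMap x * wbMap y := by
  have hx : (x : GU K).b = 0 := x.2
  have hy : (y : GU K).b = 0 := y.2
  apply Subtype.ext
  ext
  all_goals
    simp only [wbMap, Subgroup.coe_mul, GU.mul_a, GU.mul_b, GU.mul_c, GU.mul_d, GU.mul_e, GU.mul_f, hx, hy]
    ring

/-- the short Weyl element on `Q_a` -/
def waMap (g : Qa K) : Qa K :=
  ⟨⟨0, (g : GU K).e, -(g : GU K).d, (g : GU K).c, -(g : GU K).b,
    (g : GU K).f + (g : GU K).b * (g : GU K).e - 3 * (g : GU K).c * (g : GU K).d⟩, rfl⟩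

theorem waMap_mul (x y : Qa K) : waMap (x * y) = waMap x * waMap y := by
  have hx : (x : GU K).a = 0 := x.2
  have hy : (y : GU K).a = 0 := y.2
  apply Subtype.ext
  ext
  all_goals
    simp only [waMap, Subgroup.coe_mul, GU.mul_a, GU.mul_b, GU.mul_c, GU.mul_d, GU.mul_e, GU.mul_f, hx, hy]
    ring

theorem exists_wb [Finite K] : ∃ γ : MulAut (Qb K), IsWb γ := by
  refine ⟨mkAut wbMap wbMap_mul ?_, fun _ => rfl, fun _ => rfl, fun _ => rfl, fun _ => rfl, fun _ => rfl⟩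
  intro x hx
  have hx' : ((wbMap x : Qb K) : GU K) = 1 := by rw [hx]; rfl
  have hb : (x : GU K).b = 0 := x.2
  have hc : (x : GU K).c = 0 := by
    have h : -(x : GU K).c = 0 := congrArg GU.a hx'
    linear_combination -h
  have ha : (x : GU K).a = 0 := congrArg GU.c hx'
  have hd : (x : GU K).d = 0 := by
    have h : (x : GU K).d - 2 * (x : GU K).a * (x : GU K).c = 0 := congrArg GU.d hx'
    rw [hc] at h
    linear_combination h
  have hf : (x : GU K).f = 0 := by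
    have h : -(x : GU K).f + 3 * (x : GU K).a * (x : GU K).c ^ 2 = 0 := congrArg GU.e hx'
    rw [hc] at h
    linear_combination -h
  have he : (x : GU K).e = 0 := by
    have h : (x : GU K).e - 3 * (x : GU K).a ^ 2 * (x : GU K).c = 0 := congrArg GU.f hx'
    rw [hc] at h
    linear_combination h
  apply Subtype.ext
  ext <;> assumption

theorem exists_wa [Finite K] : ∃ γ : MulAut (Qa K), IsWa γ := by
  refine ⟨mkAut waMap waMap_mul ?_, fun _ => rfl, fun _ => rfl, fun _ => rfl, fun _ => rfl, fun _ => rfl⟩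
  intro x hx
  have hx' : ((waMap x : Qa K) : GU K) = 1 := by rw [hx]; rfl
  have ha : (x : GU K).a = 0 := x.2
  have he : (x : GU K).e = 0 := congrArg GU.b hx'
  have hd : (x : GU K).d = 0 := by
    have h : -(x : GU K).d = 0 := congrArg GU.c hx'
    linear_combination -h
  have hc : (x : GU K).c = 0 := congrArg GU.d hx'
  have hb : (x : GU K).b = 0 := by
    have h : -(x : GU K).b = 0 := congrArg GU.e hx'
    linear_combination -h
  have hf : (x : GU K).f = 0 := by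
    have h : (x : GU K).f + (x : GU K).b * (x : GU K).e - 3 * (x : GU K).c * (x : GU K).d = 0 := congrArg GU.f hx'
    rw [hb, hc] at h
    linear_combination h
  apply Subtype.ext
  ext <;> assumption

/-! ### The group `TT K` -/

theorem tor_mul {α α' : MulAut (GU K)} {s t s' t' : K} {τ τ' : K ≃+* K} (h : IsTor α s t τ) (h' : IsTor α' s' t' τ') :
    IsTor (α * α') (s * τ s') (t * τ t') (τ'.trans τ) where
  ne1 := mul_ne_zero h.ne1 ((map_ne_zero_iff _ τ.injective).2 h'.ne1)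
  ne2 := mul_ne_zero h.ne2 ((map_ne_zero_iff _ τ.injective).2 h'.ne2)
  a g := by
    rw [MulAut.mul_apply, h.a, h'.a]
    simp only [map_mul, RingEquiv.coe_trans, Function.comp_apply]
    ring
  b g := by
    rw [MulAut.mul_apply, h.b, h'.b]
    simp only [map_mul, RingEquiv.coe_trans, Function.comp_apply]
    ring
  c g := by
    rw [MulAut.mul_apply, h.c, h'.c]
    simp only [map_mul, RingEquiv.coe_trans, Function.comp_apply]
    ring
  d g := by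
    rw [MulAut.mul_apply, h.d, h'.d]
    simp only [map_mul, map_pow, RingEquiv.coe_trans, Function.comp_apply]
    ring
  e g := by
    rw [MulAut.mul_apply, h.e, h'.e]
    simp only [map_mul, map_pow, RingEquiv.coe_trans, Function.comp_apply]
    ring
  f g := by
    rw [MulAut.mul_apply, h.f, h'.f]
    simp only [map_mul, map_pow, RingEquiv.coe_trans, Function.comp_apply]
    ring

theorem ext_aut {α β : MulAut (GU K)} (h : ∀ g : GU K, (α g).a = (β g).a ∧ (α g).b = (β g).b ∧ (α g).c = (β g).c ∧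
    (α g).d = (β g).d ∧ (α g).e = (β g).e ∧ (α g).f = (β g).f) : α = β := by
  apply MulEquiv.ext
  intro g
  obtain ⟨h1, h2, h3, h4, h5, h6⟩ := h g
  exact GU.ext h1 h2 h3 h4 h5 h6

/-- `ρ α = α' ρ`, `α'` the twisted torus element -/
theorem gr_tor {ρ α : MulAut (GU K)} {s t : K} {τ : K ≃+* K} (hρ : IsGr ρ) (h : IsTor α s t τ) :
    ∃ α' : MulAut (GU K), IsTor α' t (s ^ 3) τ ∧ ρ * α = α' * ρ := by
  obtain ⟨α', h'⟩ := exists_tor τ h.ne2 (pow_ne_zero 3 h.ne1)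
  refine ⟨α', h', ext_aut fun g => ⟨?_, ?_, ?_, ?_, ?_, ?_⟩⟩ <;>
    simp only [MulAut.mul_apply, hρ.a, hρ.b, hρ.c, hρ.d, hρ.e, hρ.f, h.a, h.b, h.c, h.d, h.e, h.f, h'.a, h'.b, h'.c,
      h'.d, h'.e, h'.f, map_sub, map_mul, map_pow] <;> ring

theorem gr_gr {ρ ρ' : MulAut (GU K)} [Finite K] (h : IsGr ρ) (h' : IsGr ρ') : ∃ τ : K ≃+* K, IsTor (ρ * ρ') 1 1 τ := by
  have : CharP K 3 := by
    refine (CharP.charP_iff_prime_eq_zero Nat.prime_three).2 ?_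
    exact_mod_cast h.three
  have : Fact (Nat.Prime 3) := ⟨Nat.prime_three⟩
  refine ⟨frobeniusEquiv K 3, one_ne_zero, one_ne_zero, fun g => ?_, fun g => ?_, fun g => ?_, fun g => ?_, fun g => ?_,
    fun g => ?_⟩
  all_goals
    simp only [MulAut.mul_apply, h.a, h.b, h.c, h.d, h.e, h.f, h'.a, h'.b, h'.c, h'.d, h'.e, h'.f, frobeniusEquiv_def]
  · linear_combination (0) * h.three
  · linear_combination (0) * h.three
  · linear_combination (0) * h.three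
  · linear_combination (0) * h.three
  · linear_combination ((-1) * g.a ^ 3 * g.b * g.e ^ 2 + (1) * g.a ^ 6 * g.b ^ 2 * g.e) * h.three
  · linear_combination ((-1) * g.a ^ 3 * g.b ^ 2 * g.f ^ 2 + (1) * g.a ^ 6 * g.b ^ 4 * g.f) * h.three

/-- the elements of `TT K` -/
theorem mem_TT [Finite K] {α : MulAut (GU K)} (hα : α ∈ TT K) : (∃ s t τ, IsTor α s t τ) ∨
    ∃ s t τ, ∃ α' ρ : MulAut (GU K), IsTor α' s t τ ∧ IsGr ρ ∧ α = α' * ρ := by
  let P : MulAut (GU K) → Prop := fun α => (∃ s t τ, IsTor α s t τ) ∨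
    ∃ s t τ, ∃ α' ρ : MulAut (GU K), IsTor α' s t τ ∧ IsGr ρ ∧ α = α' * ρ
  have hone : IsTor (1 : MulAut (GU K)) 1 1 (RingEquiv.refl K) :=
    ⟨one_ne_zero, one_ne_zero, fun g => by simp, fun g => by simp, fun g => by simp, fun g => by simp, fun g => by simp,
      fun g => by simp⟩
  have hmul : ∀ α β : MulAut (GU K), P α → P β → P (α * β) := by
    rintro α β (⟨s, t, τ, h⟩ | ⟨s, t, τ, α', ρ, h, hρ, rfl⟩) (⟨s', t', τ', h'⟩ | ⟨s', t', τ', β', ρ', h', hρ', rfl⟩)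
    · exact Or.inl ⟨_, _, _, tor_mul h h'⟩
    · exact Or.inr ⟨_, _, _, α * β', ρ', tor_mul h h', hρ', (mul_assoc _ _ _).symm⟩
    · obtain ⟨γ, hγ, e⟩ := gr_tor hρ h'
      exact Or.inr ⟨_, _, _, α' * γ, ρ, tor_mul h hγ, hρ, by rw [mul_assoc, e, mul_assoc]⟩
    · obtain ⟨γ, hγ, e⟩ := gr_tor hρ h'
      obtain ⟨σ, hσ⟩ := gr_gr hρ hρ'
      have e2 : α' * ρ * (β' * ρ') = α' * γ * (ρ * ρ') := by
        rw [mul_assoc, ← mul_assoc ρ, e]
        simp only [mul_assoc]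
      rw [e2]
      exact Or.inl ⟨_, _, _, tor_mul (tor_mul h hγ) hσ⟩
  let M : Submonoid (MulAut (GU K)) :=
    { carrier := {α | P α}
      one_mem' := Or.inl ⟨1, 1, _, hone⟩
      mul_mem' := fun {α β} ha hb => hmul α β ha hb }
  have hinv : ∀ α, P α → P α⁻¹ := by
    intro α h
    have h1 : α⁻¹ ∈ Submonoid.powers α := by
      rw [mem_powers_iff_mem_zpowers]
      exact Subgroup.inv_mem _ (Subgroup.mem_zpowers α)
    have h2 : Submonoid.powers α ≤ M := by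
      rw [Submonoid.powers_le]
      exact h
    exact h2 h1
  have : α ∈ ({ M with inv_mem' := fun {α} h => hinv α h } : Subgroup (MulAut (GU K))) := by
    refine (Subgroup.closure_le _).2 ?_ hα
    rintro β (⟨s, t, τ, h⟩ | h)
    · exact Or.inl ⟨s, t, τ, h⟩
    · exact Or.inr ⟨1, 1, _, 1, β, hone, h, (one_mul _).symm⟩
  exact this

/-- **(GRP)** -/
theorem stGrp : StGrp.{u} := by
  intro K _ p n h
  have := h.fin
  have hc : Nat.card (GU K) = (p ^ n) ^ 6 := by rw [GU.card_eq, h.card]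
  have hp : Fact p.Prime := ⟨h.pp⟩
  refine ⟨hc, ?_, fun s t τ hs ht => exists_tor τ hs ht, ?_, fun α hα => mem_TT hα, exists_wb, exists_wa⟩
  · refine IsPGroup.of_card (n := n * 6) ?_
    rw [Subgroup.card_top, hc, pow_mul]
  · intro hp3
    subst hp3
    have := h.char
    exact exists_gr (by exact_mod_cast CharP.cast_eq_zero K 3)

end Cfsg.Agent.H103.GT
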