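import Cfsg.Agent.H103.GT.Grp
import Cfsg.Agent.H353.GT.Lb5
import Cfsg.Agent.H904.GT.Three
import Cfsg.Agent.H10.GT.Omega
import Cfsg.Agent.H428.GT.LbZero3

/-!
# S5211: `StLb` (all `q ≥ 5`) from the three characteristics (helper103)
-/

set_option autoImplicit false

namespace Cfsg.Agent.H103.GT

open Cfsg Cfsg.FusionSystem Cfsg.Agent.H779.G2

universe u

theorem stLb : StLb.{u} := by
  intro K _ p n hK hq Γ D h
  by_cases h2 : p = 2
  · refine Cfsg.Agent.H10.GT.stLb_two hK h2 ?_ Γ D h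
    subst h2
    have h3 : 3 ≤ n := by
      by_contra hc
      have : n ≤ 2 := by omega
      have := Nat.pow_le_pow_right (show 0 < 2 by norm_num) this
      omega
    calc 8 = 2 ^ 3 := by norm_num
      _ ≤ 2 ^ n := Nat.pow_le_pow_right (by norm_num) h3
  by_cases h3 : p = 3
  · exact Cfsg.Agent.H904.GT.stLb_three Cfsg.Agent.H428.GT.stLb0 stGrp hK h3 hq Γ D h
  have h5 : 5 ≤ p := by
    have h1 := hK.pp.two_le
    have h4 : p ≠ 4 := by
      rintro rfl
      exact absurd hK.pp (by norm_num)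
    omega
  exact Cfsg.Agent.H353.GT.stLb_five hK h5 Γ D h

end Cfsg.Agent.H103.GT
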