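import Cfsg.Agent.H103.GT.Grp
import Cfsg.Agent.H103.GT.Coord
import Cfsg.Agent.H802.FusBasic

/-!
# S5211: transport by the graph automorphism (`p = 3`) (helper103)

`ρ` the graph automorphism: `ρ(Q_b) = Q_a`, `ρ w_b ρ⁻¹ = w_a`, `ρ tor(s, t) ρ⁻¹ = tor(t, s³)`.
-/

set_option autoImplicit false

namespace Cfsg.Agent.H103.GT

open Cfsg Cfsg.FusionSystem Cfsg.Agent.H779.G2 Cfsg.Agent.H756.PU Cfsg.Agent.H802

universe u

variable {K : Type u} [Field K]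

theorem gr_mem_iff {ρ : MulAut (GU K)} (h : IsGr ρ) (g : GU K) : ρ g ∈ Qa K ↔ g ∈ Qb K := by
  rw [mem_Qa, mem_Qb, h.a]

theorem gr_mem_iff' {ρ : MulAut (GU K)} (h : IsGr ρ) (g : GU K) : ρ g ∈ Qb K ↔ g ∈ Qa K := by
  rw [mem_Qa, mem_Qb, h.b]
  exact pow_eq_zero_iff (by norm_num)

theorem map_Qb {ρ : MulAut (GU K)} (h : IsGr ρ) : (Qb K).map ρ.toMonoidHom = Qa K := by
  ext y
  constructor
  · rintro ⟨x, hx, rfl⟩
    exact (gr_mem_iff h x).2 hx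
  · intro hy
    refine ⟨ρ.symm y, ?_, ρ.apply_symm_apply y⟩
    apply (gr_mem_iff h _).1
    rw [ρ.apply_symm_apply]
    exact hy

/-- the isomorphism `Q_b ≃* Q_a` induced by `ρ` -/
noncomputable def rb {ρ : MulAut (GU K)} (h : IsGr ρ) : Qb K ≃* Qa K :=
  (ρ.subgroupMap (Qb K)).trans (MulEquiv.subgroupCongr (map_Qb h))

theorem coe_rb {ρ : MulAut (GU K)} (h : IsGr ρ) (x : Qb K) : ((rb h x : Qa K) : GU K) = ρ x := rfl

theorem coe_rb_symm {ρ : MulAut (GU K)} (h : IsGr ρ) (y : Qa K) : (((rb h).symm y : Qb K) : GU K) = ρ⁻¹ (y : GU K) := by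
  have h1 := coe_rb h ((rb h).symm y)
  rw [MulEquiv.apply_symm_apply] at h1
  rw [h1]
  exact (MulAut.inv_apply_self _ _ _).symm

/-- conjugation by `ρ`, on automorphisms -/
noncomputable def rB {ρ : MulAut (GU K)} (h : IsGr ρ) : MulAut (Qb K) ≃* MulAut (Qa K) := MulAut.congr (rb h)

theorem coe_rB {ρ : MulAut (GU K)} (h : IsGr ρ) (γ : MulAut (Qb K)) (y : Qa K) :
    ((rB h γ y : Qa K) : GU K) = ρ ((γ ((rb h).symm y) : Qb K) : GU K) := rfl

theorem coe_rB_rb {ρ : MulAut (GU K)} (h : IsGr ρ) (γ : MulAut (Qb K)) (x : Qb K) :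
    ((rB h γ (rb h x) : Qa K) : GU K) = ρ ((γ x : Qb K) : GU K) := by
  rw [coe_rB, MulEquiv.symm_apply_apply]

theorem rB_mem_ind {ρ : MulAut (GU K)} (h : IsGr ρ) (γ : MulAut (Qb K)) :
    rB h γ ∈ autInducedBy ⊤ (Qa K) ↔ γ ∈ autInducedBy ⊤ (Qb K) := by
  rw [mem_autInducedBy_iff, mem_autInducedBy_iff]
  constructor
  · rintro ⟨g, -, hg⟩
    refine ⟨ρ⁻¹ g, Subgroup.mem_top _, fun x => ρ.injective ?_⟩
    have h1 := hg (rb h x)
    rw [coe_rB_rb, coe_rb] at h1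
    rw [h1, map_mul, map_mul, map_inv]
    simp only [MulAut.apply_inv_self]
  · rintro ⟨g, -, hg⟩
    refine ⟨ρ g, Subgroup.mem_top _, fun y => ?_⟩
    obtain ⟨x, rfl⟩ := (rb h).surjective y
    rw [coe_rB_rb, coe_rb, hg x, map_mul, map_mul, map_inv]

theorem rB_norm {ρ : MulAut (GU K)} (h : IsGr ρ) (γ : MulAut (Qb K)) : NormAut ⊤ (rB h γ) ↔ NormAut ⊤ γ := by
  constructor
  · intro hn x hx
    have h1 := hn (rB h x) ((rB_mem_ind h x).2 hx)
    rw [← map_inv, ← map_mul, ← map_mul] at h1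
    exact (rB_mem_ind h _).1 h1
  · intro hn y hy
    obtain ⟨x, rfl⟩ := (rB h).surjective y
    rw [← map_inv, ← map_mul, ← map_mul]
    exact (rB_mem_ind h _).2 (hn x ((rB_mem_ind h x).1 hy))

theorem rB_res {ρ : MulAut (GU K)} (h : IsGr ρ) {γ : MulAut (Qb K)} {d : MulAut (GU K)} :
    IsR (ρ * d * ρ⁻¹) (rB h γ) ↔ IsR d γ := by
  constructor
  · intro hr x
    apply ρ.injective
    have h1 := hr (rb h x)
    rw [coe_rB_rb, coe_rb, MulAut.mul_apply, MulAut.mul_apply, MulAut.inv_apply_self] at h1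
    exact h1
  · intro hr y
    obtain ⟨x, rfl⟩ := (rb h).surjective y
    rw [coe_rB_rb, coe_rb, hr x, MulAut.mul_apply, MulAut.mul_apply, MulAut.inv_apply_self]

theorem gr_mem_TT {ρ : MulAut (GU K)} (h : IsGr ρ) : ρ ∈ TT K := Subgroup.subset_closure (Or.inr h)

/-- the transport of `Par` -/
theorem par_swap {p : ℕ} {ρ : MulAut (GU K)} (h : IsGr ρ) {Γ : Subgroup (MulAut (Qa K))} {D : Subgroup (MulAut (GU K))}
    (hP : Par p (Qa K) Γ D) :
    Par p (Qb K) (Γ.comap (rB h).toMonoidHom) (D.comap (MulAut.conj ρ).toMonoidHom) where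
  indu := fun γ hγ => hP.indu ((rB_mem_ind h γ).2 hγ)
  syl := by
    intro P hPΓ hPp
    obtain ⟨g, hg, hgx⟩ := hP.syl (P.map (rB h).toMonoidHom) (Subgroup.map_le_iff_le_comap.2 hPΓ)
      (hPp.map (rB h).toMonoidHom)
    obtain ⟨g', rfl⟩ := (rB h).surjective g
    refine ⟨g', hg, fun x hx => ?_⟩
    have h1 := hgx (rB h x) ⟨x, hx, rfl⟩
    rw [← map_inv, ← map_mul, ← map_mul] at h1
    exact (rB_mem_ind h _).1 h1
  nn := by
    intro hn
    apply hP.nn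
    intro γ hγ
    obtain ⟨γ', rfl⟩ := (rB h).surjective γ
    exact (rB_norm h _).2 (hn γ' hγ)
  D_le := by
    intro d hd
    have h1 : ρ * d * ρ⁻¹ ∈ TT K := hP.D_le hd
    have h2 : d = ρ⁻¹ * (ρ * d * ρ⁻¹) * ρ := by group
    rw [h2]
    exact (TT K).mul_mem ((TT K).mul_mem ((TT K).inv_mem (gr_mem_TT h)) h1) (gr_mem_TT h)
  D_cop := by
    have : Nat.card (D.comap (MulAut.conj ρ).toMonoidHom) = Nat.card D := by
      have h1 : (D.comap (MulAut.conj ρ).toMonoidHom).map (MulAut.conj ρ).toMonoidHom = D :=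
        Subgroup.map_comap_eq_self_of_surjective (MulAut.conj ρ).surjective D
      conv_rhs => rw [← h1]
      exact Nat.card_congr (Subgroup.equivMapOfInjective _ _ (MulAut.conj ρ).injective).toEquiv
    rw [this]
    exact hP.D_cop
  D_res := by
    intro d hd γ hγ
    exact hP.D_res (ρ * d * ρ⁻¹) hd _ ((rB_res h).2 hγ)
  norm := by
    intro γ hγ hn
    obtain ⟨x, d, hd, he⟩ := hP.norm (rB h γ) hγ ((rB_norm h γ).2 hn)
    refine ⟨ρ⁻¹ x, ρ⁻¹ * d * ρ, ?_, fun z => ρ.injective ?_⟩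
    · show ρ * (ρ⁻¹ * d * ρ) * ρ⁻¹ ∈ D
      have : ρ * (ρ⁻¹ * d * ρ) * ρ⁻¹ = d := by group
      rw [this]
      exact hd
    · have h1 := he (rb h z)
      rw [coe_rB_rb, coe_rb] at h1
      rw [h1, map_mul, map_mul, map_inv]
      simp only [MulAut.mul_apply, MulAut.apply_inv_self]

theorem wb_unique {γ γ' : MulAut (Qb K)} (h : IsWb γ) (h' : IsWb γ') : γ = γ' := by
  apply MulEquiv.ext
  intro x
  apply Subtype.ext
  refine GU.ext (by rw [h.a, h'.a]) ?_ (by rw [h.c, h'.c]) (by rw [h.d, h'.d]) (by rw [h.e, h'.e]) (by rw [h.f, h'.f])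
  rw [mem_Qb.1 (γ x).2, mem_Qb.1 (γ' x).2]

theorem wa_unique {γ γ' : MulAut (Qa K)} (h : IsWa γ) (h' : IsWa γ') : γ = γ' := by
  apply MulEquiv.ext
  intro x
  apply Subtype.ext
  refine GU.ext ?_ (by rw [h.b, h'.b]) (by rw [h.c, h'.c]) (by rw [h.d, h'.d]) (by rw [h.e, h'.e]) (by rw [h.f, h'.f])
  rw [mem_Qa.1 (γ x).2, mem_Qa.1 (γ' x).2]

/-- `ρ w_b ρ⁻¹ = w_a` -/
theorem rB_wb {ρ : MulAut (GU K)} (h : IsGr ρ) {γ : MulAut (Qb K)} (hw : IsWb γ) : IsWa (rB h γ) := by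
  have key : ∀ x : Qb K, (((rB h γ (rb h x) : Qa K) : GU K).b = ((rb h x : Qa K) : GU K).e ∧
      ((rB h γ (rb h x) : Qa K) : GU K).c = - ((rb h x : Qa K) : GU K).d ∧
      ((rB h γ (rb h x) : Qa K) : GU K).d = ((rb h x : Qa K) : GU K).c ∧
      ((rB h γ (rb h x) : Qa K) : GU K).e = - ((rb h x : Qa K) : GU K).b ∧
      ((rB h γ (rb h x) : Qa K) : GU K).f = ((rb h x : Qa K) : GU K).f + ((rb h x : Qa K) : GU K).b * ((rb h x : Qa K) : GU K).e
        - 3 * ((rb h x : Qa K) : GU K).c * ((rb h x : Qa K) : GU K).d) := by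
    intro x
    have hx : (x : GU K).b = 0 := x.2
    have hx' : ((γ x : Qb K) : GU K).b = 0 := (γ x).2
    have h3 := h.three
    rw [coe_rB_rb, coe_rb, h.b, h.b, h.c, h.c, h.d, h.d, h.e, h.e, h.f, h.f, hx, hx', hw.a, hw.c, hw.d, hw.e, hw.f]
    refine ⟨?_, ?_, ?_, ?_, ?_⟩
    · ring
    · linear_combination (- ((x : GU K).c ^ 2 * (x : GU K).a)) * h3
    · linear_combination ((x : GU K).c * (x : GU K).a ^ 2) * h3
    · ring
    · linear_combination (2 * (x : GU K).c * (x : GU K).d ^ 2 * (x : GU K).a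
        - 4 * (x : GU K).c ^ 2 * (x : GU K).d * (x : GU K).a ^ 2 + 3 * (x : GU K).c ^ 3 * (x : GU K).a ^ 3
        + (x : GU K).e * (x : GU K).f) * h3
  refine ⟨fun y => ?_, fun y => ?_, fun y => ?_, fun y => ?_, fun y => ?_⟩
  all_goals
    obtain ⟨x, rfl⟩ := (rb h).surjective y
    obtain ⟨k1, k2, k3, k4, k5⟩ := key x
    assumption

theorem gr_tor_conj {ρ α : MulAut (GU K)} {s t : K} {τ : K ≃+* K} (hρ : IsGr ρ) (h : IsTor α s t τ) :
    IsTor (ρ * α * ρ⁻¹) t (s ^ 3) τ := by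
  obtain ⟨α', h', e⟩ := gr_tor hρ h
  rw [e, mul_inv_cancel_right]
  exact h'

theorem full_comap {ρ : MulAut (GU K)} (h : IsGr ρ) {D : Subgroup (MulAut (GU K))} (hD : Full D) :
    Full (D.comap (MulAut.conj ρ).toMonoidHom) := fun s t _ hα => hD t (s ^ 3) _ (gr_tor_conj h hα)

theorem gen_map {ρ : MulAut (GU K)} [Finite K] (h : IsGr ρ) (D : Subgroup (MulAut (GU K))) :
    (Gen (IsWb (K := K)) (D.comap (MulAut.conj ρ).toMonoidHom)).map (rB h).toMonoidHom = Gen (IsWa (K := K)) D := by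
  unfold Gen
  rw [MonoidHom.map_closure]
  congr 1
  ext γ
  constructor
  · rintro ⟨γ', (hγ | hγ) | ⟨d, hd, hγ⟩, rfl⟩
    · exact Or.inl (Or.inl ((rB_mem_ind h γ').2 hγ))
    · exact Or.inl (Or.inr (rB_wb h hγ))
    · exact Or.inr ⟨ρ * d * ρ⁻¹, hd, (rB_res h).2 hγ⟩
  · rintro ((hγ | hγ) | ⟨d, hd, hγ⟩)
    · obtain ⟨γ', rfl⟩ := (rB h).surjective γ
      exact ⟨γ', Or.inl (Or.inl ((rB_mem_ind h γ').1 hγ)), rfl⟩
    · obtain ⟨w, hw⟩ := exists_wb (K := K)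
      exact ⟨w, Or.inl (Or.inr hw), wa_unique (rB_wb h hw) hγ⟩
    · obtain ⟨γ', rfl⟩ := (rB h).surjective γ
      have hd' : ρ * (ρ⁻¹ * d * ρ) * ρ⁻¹ = d := by group
      refine ⟨γ', Or.inr ⟨ρ⁻¹ * d * ρ, ?_, ?_⟩, rfl⟩
      · show ρ * (ρ⁻¹ * d * ρ) * ρ⁻¹ ∈ D
        rw [hd']
        exact hd
      · apply (rB_res h).1
        rw [hd']
        exact hγ

theorem three_eq {n : ℕ} (hK : HypG K 3 n) : (3 : K) = 0 := by
  have := hK.char
  exact_mod_cast CharP.cast_eq_zero K 3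

/-- **(La, `p = 3`)** from (Lb) -/
theorem la_three_of (hLb : StLb.{u}) {n : ℕ} (hK : HypG K 3 n) (hq : 5 ≤ 3 ^ n) (Γ : Subgroup (MulAut (Qa K)))
    (D : Subgroup (MulAut (GU K))) (hP : Par 3 (Qa K) Γ D) :
    HasTor D (fun t => t ^ 2) (fun t => (t ^ 3)⁻¹) ∧ (Full D → Γ = Gen IsWa D) := by
  have := hK.fin
  obtain ⟨ρ, h⟩ := exists_gr (three_eq hK)
  obtain ⟨h1, h2⟩ := hLb hK hq _ _ (par_swap h hP)
  constructor
  · intro t ht α hα
    have ht' : t⁻¹ ≠ 0 := inv_ne_zero ht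
    obtain ⟨β, hβ⟩ := exists_tor (s := t⁻¹) (t := t ^ 2) (RingEquiv.refl K) ht' (pow_ne_zero 2 ht)
    have h3 : ρ * β * ρ⁻¹ ∈ D := h1 t ht β hβ
    have h4 := gr_tor_conj h hβ
    have h5 : α = ρ * β * ρ⁻¹ := by
      apply ext_aut
      intro g
      have e : (t⁻¹) ^ 3 = (t ^ 3)⁻¹ := inv_pow t 3
      rw [e] at h4
      exact ⟨by rw [hα.a, h4.a], by rw [hα.b, h4.b], by rw [hα.c, h4.c], by rw [hα.d, h4.d], by rw [hα.e, h4.e],
        by rw [hα.f, h4.f]⟩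
    rw [h5]
    exact h3
  · intro hD
    have h3 := h2 (full_comap h hD)
    rw [← gen_map h D, ← h3]
    exact (Subgroup.map_comap_eq_self_of_surjective (rB h).surjective Γ).symm

end Cfsg.Agent.H103.GT
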