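import Cfsg.Agent.H103.GT.Asm
import Cfsg.Agent.H103.GT.Swap
import Cfsg.Agent.H779.G2.Stmts3

/-!
# S5211: the main case `q ≥ 8` with `StLaP` (helper103)

* `red_core` : the reduction of `Asm.lean`, keeping `O_p(F) = 1`;
* `not_inv_a` : for `O_p(F) = 1`, `p ≠ 3`, `Z₂` is not invariant under `Aut_F(Q_a)`, and `Z₃` neither for `p ≥ 5`;
* `stMainBig_of'` : `StMainBig` from `StLb`, `StLaP (5 ≤ p)`, `StLaTwo` (`p = 2`), `StReal`.
-/

set_option autoImplicit false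

namespace Cfsg.Agent.H103.GT

open Cfsg Cfsg.FusionSystem Cfsg.Agent.H779.G2 Cfsg.Agent.H756.PU Cfsg.Agent.H802

universe u v

/-- (La, `p = 2`, `q ≥ 8`), without the (unnecessary) non-invariance hypotheses -/
def StLaTwo : Prop :=
  ∀ {K : Type u} [Field K] {n : ℕ}, HypG K 2 n → 8 ≤ 2 ^ n →
    ∀ (Γ : Subgroup (MulAut (Qa K))) (D : Subgroup (MulAut (GU K))), Par 2 (Qa K) Γ D →
    HasTor D (fun t => t⁻¹) (fun t => t ^ 2) →
    HasTor D (fun t => t ^ 2) (fun t => (t ^ 3)⁻¹) ∧ (Full D → Γ = Gen IsWa D)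

/-- twisting, keeping `O_p(F) = 1` -/
theorem twist_core {G0 : Type u} [Group G0] [Finite G0] {p : ℕ} [Fact p.Prime] (F : FusionSystem (⊤ : Subgroup G0))
    (θ : MulAut G0) (hF : F.IsSaturated p) (hcore : F.core = ⊥) :
    ∃ F' : FusionSystem (⊤ : Subgroup G0), F'.IsSaturated p ∧ F'.core = ⊥ ∧ (F'.IsRealizable p → F.IsRealizable p) ∧
      AF F' = (AF F).map (MulAut.conj θ).toMonoidHom ∧
      ∀ E : Subgroup G0, F.IsEssential p E ↔ F'.IsEssential p (E.map θ.toMonoidHom) := by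
  have hinj : Function.Injective (θ⁻¹ : MulAut G0).toMonoidHom := (θ⁻¹ : MulAut G0).injective
  have htop : (⊤ : Subgroup G0) = (⊤ : Subgroup G0).map (θ⁻¹ : MulAut G0).toMonoidHom :=
    (Subgroup.map_top_of_surjective _ (θ⁻¹ : MulAut G0).surjective).symm
  obtain ⟨F', hF'⟩ := Cfsg.Agent.H759.exists_pull' (hf := hinj) htop F
  refine ⟨F', hF'.isSaturated_iff.1 hF, ?_, Cfsg.Agent.H776.Co.isRealizable_push hF', ?_, fun E => ?_⟩
  · have h1 := hF'.core_eq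
    rw [hcore] at h1
    exact (Subgroup.map_eq_bot_iff_of_injective _ hinj).1 h1.symm
  · rw [Cfsg.Agent.H805.PU.AF_push hF', Subgroup.map_map]
    have : (MulAut.conj θ).toMonoidHom.comp (MulAut.conj θ⁻¹).toMonoidHom = MonoidHom.id _ := by
      ext x
      simp [MulAut.conj_apply, mul_assoc]
    rw [this, Subgroup.map_id]
  · rw [← Cfsg.Agent.H805.PU.isEssential_iff hF', Subgroup.map_map]
    have : (θ⁻¹ : MulAut G0).toMonoidHom.comp θ.toMonoidHom = MonoidHom.id _ := by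
      ext x
      show θ⁻¹ (θ x) = x
      exact MulAut.inv_apply_self _ _ _
    rw [this, Subgroup.map_id]

/-- a nontrivial subgroup invariant under the automizers of `S`, `Q_a` and `Q_b` contradicts `O_p(F) = 1` -/
theorem core_contra {G0 : Type u} [Group G0] [Finite G0] {p : ℕ} [Fact p.Prime] {F : FusionSystem (⊤ : Subgroup G0)}
    (hS : IsPGroup p (⊤ : Subgroup G0)) (hF : F.IsSaturated p) (hcore : F.core = ⊥) {Q1 Q2 Z : Subgroup G0}
    (hess : ∀ E, F.IsEssential p E → E = Q1 ∨ E = Q2) (hZ : Z ≠ ⊥) (h1 : Inv (F.autGroup Q1) Z)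
    (h2 : Inv (F.autGroup Q2) Z) (ht : Inv (F.autGroup ⊤) Z) : False := by
  apply hZ
  have key : ∀ P : Subgroup G0, Inv (F.autGroup P) Z →
      (Z ≤ P ∧ ∀ α ∈ F.autGroup P, (Z.subgroupOf P).map α.toMonoidHom = Z.subgroupOf P) := by
    intro P hP
    refine ⟨hP.1, fun α hα => ?_⟩
    refine Subgroup.eq_of_le_of_card_ge ?_ ?_
    · rintro _ ⟨x, hx, rfl⟩
      exact Subgroup.mem_subgroupOf.2 (hP.2 α hα x (Subgroup.mem_subgroupOf.1 hx))
    · exact (Subgroup.card_map_of_injective α.injective).ge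
  have hN : F.IsNormal Z := by
    rw [Cfsg.Agent.H973.isNormal_iff_essential hS hF Z]
    rintro P (rfl | hP)
    · exact key _ ht
    · rcases hess P hP with rfl | rfl
      · exact key _ h1
      · exact key _ h2
  exact le_bot_iff.1 (hcore ▸ (le_sSup hN : Z ≤ F.core))

section

variable {K : Type u} [Field K] {p n : ℕ}

/-- the reduction, keeping `O_p(F) = 1` -/
theorem red_core (H : Pieces.{u}) (hK : HypG K p n) (hq : 2 < p ^ n) (h7 : ¬ (p = 7 ∧ n = 1))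
    (main : ∀ F : FusionSystem (⊤ : Subgroup (GU K)), F.IsSaturated p → F.core = ⊥ → F.IsEssential p (Qa K) →
      F.IsEssential p (Qb K) → (∀ E, F.IsEssential p E → E = Qa K ∨ E = Qb K) →
      ∀ D : Subgroup (MulAut (GU K)), D ≤ TT K → (Nat.card D).Coprime p →
      AF F = (MulAut.conj : GU K →* MulAut (GU K)).range ⊔ D → F.IsRealizable p)
    (F : FusionSystem (⊤ : Subgroup (GU K))) (hF : F.IsSaturated p) (hcore : F.core = ⊥) : F.IsRealizable p := by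
  have : Fact p.Prime := ⟨hK.pp⟩
  have hfin : Finite (GU K) := finite_GU hK
  have hS := isP hK
  have hess : ∀ E, F.IsEssential p E → E = Qa K ∨ E = Qb K := fun E hE => ess_cases H hK hq h7 hF hE
  by_cases hEab : F.IsEssential p (Qa K) ∧ F.IsEssential p (Qb K)
  · obtain ⟨hEa, hEb⟩ := hEab
    obtain ⟨D0, hD0, hD0e⟩ := Cfsg.Agent.H805.PU.stCompl F hS hF
    obtain ⟨θ, hθ⟩ := H.pos hK hq D0 hD0
    obtain ⟨F', hF', hcore', hR, hAF', hess'⟩ := twist_core F θ hF hcore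
    have hcase : ∀ Q : Subgroup (GU K), (Q = Qa K ∨ Q = Qb K) → F'.IsEssential p Q := by
      intro Q hQ
      have h1 : Q.map (θ⁻¹ : MulAut (GU K)).toMonoidHom = Qa K ∨ Q.map (θ⁻¹ : MulAut (GU K)).toMonoidHom = Qb K :=
        (H.ti hK hq Q hQ).2.2.2.2 θ⁻¹
      have h2 : (Q.map (θ⁻¹ : MulAut (GU K)).toMonoidHom).map θ.toMonoidHom = Q := by
        rw [Subgroup.map_map]
        have : θ.toMonoidHom.comp (θ⁻¹ : MulAut (GU K)).toMonoidHom = MonoidHom.id _ := by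
          ext x : 1
          exact MulAut.apply_inv_self _ _ _
        rw [this, Subgroup.map_id]
      rw [← h2]
      apply (hess' _).1
      rcases h1 with h1 | h1
      · rw [h1]; exact hEa
      · rw [h1]; exact hEb
    apply hR
    refine main F' hF' hcore' (hcase _ (Or.inl rfl)) (hcase _ (Or.inr rfl))
      (fun E hE => ess_cases H hK hq h7 hF' hE) (D0.map (MulAut.conj θ).toMonoidHom) ?_ ?_ ?_
    · rintro _ ⟨d, hd, rfl⟩
      exact hθ d hd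
    · have : Nat.card (D0.map (MulAut.conj θ).toMonoidHom) = Nat.card D0 :=
        (Nat.card_congr (D0.equivMapOfInjective _ (MulAut.conj θ).injective).toEquiv).symm
      rwa [this]
    · rw [hAF', ← hD0e, Subgroup.map_sup, map_conj_range]
  · -- at most one essential subgroup
    by_cases hEa : F.IsEssential p (Qa K)
    · have hEb : ¬ F.IsEssential p (Qb K) := fun h => hEab ⟨hEa, h⟩
      exact red_of.one_ess H.ti hK hq hF (Or.inl rfl) hEa fun E hE =>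
        (hess E hE).resolve_right (by rintro rfl; exact hEb hE)
    · by_cases hEb : F.IsEssential p (Qb K)
      · exact red_of.one_ess H.ti hK hq hF (Or.inr rfl) hEb fun E hE =>
          (hess E hE).resolve_left (by rintro rfl; exact hEa hE)
      · refine Cfsg.Agent.H546.PU.stCon F ⊤ hS hF le_rfl ?_ le_top ?_ ?_
        · exact (Subgroup.normalizer_eq_top_iff.2 inferInstance).ge
        · intro E hE
          rcases hess E hE with h | h
          · subst h; exact absurd hE hEa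
          · subst h; exact absurd hE hEb
        · exact ⟨le_rfl, fun γ _ e _ => Subgroup.mem_top _⟩

/-! ### characteristic subgroups of `Q_b` -/

theorem three_ne (hK : HypG K p n) (h3 : p ≠ 3) : (3 : K) ≠ 0 := by
  have := hK.char
  intro h
  have h1 : ((3 : ℕ) : K) = 0 := by exact_mod_cast h
  rw [CharP.cast_eq_zero_iff K p 3] at h1
  exact h3 ((Nat.prime_dvd_prime_iff_eq hK.pp Nat.prime_three).1 h1)

theorem two_ne (hK : HypG K p n) (h2 : p ≠ 2) : (2 : K) ≠ 0 := by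
  have := hK.char
  intro h
  have h1 : ((2 : ℕ) : K) = 0 := by exact_mod_cast h
  rw [CharP.cast_eq_zero_iff K p 2] at h1
  exact h2 ((Nat.prime_dvd_prime_iff_eq hK.pp Nat.prime_two).1 h1)

/-- `Z₂ = Z(Q_b)` is characteristic in `Q_b`, `p ≠ 3` -/
theorem Z2_char (h3 : (3 : K) ≠ 0) (γ : MulAut (Qb K)) (g : Qb K) (hg : (g : GU K) ∈ Z2 K) :
    ((γ g : Qb K) : GU K) ∈ Z2 K := by
  rw [← cent_Qb h3]
  intro z hz
  have h1 := (cent_Qb h3).2 hg
  have h2 := h1 (γ.symm ⟨z, hz⟩ : Qb K) (γ.symm ⟨z, hz⟩).2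
  have h4 : g * γ.symm ⟨z, hz⟩ = γ.symm ⟨z, hz⟩ * g := Subtype.ext h2
  have h5 := congrArg γ h4
  rw [map_mul, map_mul, MulEquiv.apply_symm_apply] at h5
  exact congrArg Subtype.val h5

theorem Z3_comm (h2 : (2 : K) ≠ 0) (h3 : (3 : K) ≠ 0) (g : GU K) (hg : g ∈ Z3 K) : ∃ s t u : K,
    g = (x1 1 * x3 s * (x1 1)⁻¹ * (x3 s)⁻¹) * (x1 1 * x4 t * (x1 1)⁻¹ * (x4 t)⁻¹) *
      (x3 1 * x4 u * (x3 1)⁻¹ * (x4 u)⁻¹) := by
  obtain ⟨ha, hb, hc⟩ := mem_Z3.1 hg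
  refine ⟨-g.d / 2, -g.d / 2 - g.e / 3, (-g.d / 2) ^ 2 - g.f / 3, ?_⟩
  have e1 : x1 (1 : K) * x3 (-g.d / 2) * (x1 1)⁻¹ * (x3 (-g.d / 2))⁻¹ = ⟨0, 0, 0, g.d, 3 * (-g.d / 2), 3 * (-g.d / 2) ^ 2⟩ := by
    ext
    · rw [cm_a]
    · rw [cm_b]
    · rw [cm_c]; simp [x1, x3]
    · rw [cm_d]; simp [x1, x3]; field_simp
    · rw [cm_e]; simp [x1, x3]
    · rw [cm_f]; simp [x1, x3]
  have e2 : x1 (1 : K) * x4 (-g.d / 2 - g.e / 3) * (x1 1)⁻¹ * (x4 (-g.d / 2 - g.e / 3))⁻¹ =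
      ⟨0, 0, 0, 0, g.e - 3 * (-g.d / 2), 0⟩ := by
    ext
    · rw [cm_a]
    · rw [cm_b]
    · rw [cm_c]; simp [x1, x4]
    · rw [cm_d]; simp [x1, x4]
    · rw [cm_e]; simp [x1, x4]; field_simp; ring
    · rw [cm_f]; simp [x1, x4]
  have e3 : x3 (1 : K) * x4 ((-g.d / 2) ^ 2 - g.f / 3) * (x3 1)⁻¹ * (x4 ((-g.d / 2) ^ 2 - g.f / 3))⁻¹ =
      ⟨0, 0, 0, 0, 0, g.f - 3 * (-g.d / 2) ^ 2⟩ := by
    ext
    · rw [cm_a]
    · rw [cm_b]
    · rw [cm_c]; simp [x3, x4]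
    · rw [cm_d]; simp [x3, x4]
    · rw [cm_e]; simp [x3, x4]
    · rw [cm_f]; simp [x3, x4]; field_simp; ring
  rw [e1, e2, e3]
  ext <;> simp [ha, hb, hc]

/-- `Z₃ = [Q_b, Q_b]` is characteristic in `Q_b`, `p ≥ 5` -/
theorem Z3_char (h2 : (2 : K) ≠ 0) (h3 : (3 : K) ≠ 0) (γ : MulAut (Qb K)) (g : Qb K) (hg : (g : GU K) ∈ Z3 K) :
    ((γ g : Qb K) : GU K) ∈ Z3 K := by
  have key : ∀ x y : Qb K, ((γ (x * y * x⁻¹ * y⁻¹) : Qb K) : GU K) ∈ Z3 K := by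
    intro x y
    rw [map_mul, map_mul, map_mul, map_inv, map_inv]
    exact com_Qb _ (γ x).2 _ (γ y).2
  obtain ⟨s, t, u, h⟩ := Z3_comm h2 h3 g hg
  let a1 : Qb K := ⟨x1 1, x1_mem 1⟩
  let a3 : K → Qb K := fun s => ⟨x3 s, Z4_le_Qb (x3_mem s)⟩
  let a4 : K → Qb K := fun s => ⟨x4 s, Z3_le_Qb (x4_mem s)⟩
  have h4 : g = (a1 * a3 s * a1⁻¹ * (a3 s)⁻¹) * (a1 * a4 t * a1⁻¹ * (a4 t)⁻¹) *
      (a3 1 * a4 u * (a3 1)⁻¹ * (a4 u)⁻¹) := Subtype.ext h
  rw [h4, map_mul, map_mul]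
  exact (Z3 K).mul_mem ((Z3 K).mul_mem (key _ _) (key _ _)) (key _ _)

/-- a characteristic subgroup of `Q_b` is invariant under all automorphisms of `S` as soon as `Q_b` is -/
theorem inv_top {F : FusionSystem (⊤ : Subgroup (GU K))} (hc : ∀ α : MulAut (GU K), (Qb K).map α.toMonoidHom = Qb K)
    {Z : Subgroup (GU K)} (hZ : Z ≤ Qb K)
    (hch : ∀ (γ : MulAut (Qb K)) (g : Qb K), (g : GU K) ∈ Z → ((γ g : Qb K) : GU K) ∈ Z) : Inv (F.autGroup ⊤) Z := by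
  refine ⟨le_top, fun γ hγ e he => ?_⟩
  let β : MulAut (GU K) := MulAut.congr Subgroup.topEquiv γ
  have hβ : ∀ x ∈ Qb K, β x ∈ Qb K := by
    intro x hx
    have h1 : β x ∈ (Qb K).map β.toMonoidHom := ⟨x, hx, rfl⟩
    rwa [hc β] at h1
  let γ' : MulAut (Qb K) := (β.subgroupMap (Qb K)).trans (MulEquiv.subgroupCongr (hc β))
  exact hch γ' ⟨e, hZ he⟩ he

theorem Z2_ne : Z2 K ≠ ⊥ := by
  intro h
  have h1 : x5 (1 : K) ∈ (⊥ : Subgroup (GU K)) := h ▸ x5_mem 1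
  have h2 := congrArg GU.e (Subgroup.mem_bot.1 h1)
  simp [x5] at h2

theorem Z3_ne : Z3 K ≠ ⊥ := by
  intro h
  exact Z2_ne (le_bot_iff.1 (h ▸ Z2_le_Z3))

/-- `Z₂` is not invariant under `Aut_F(Q_a)`, `p ≠ 3` -/
theorem not_inv_Z2 (hTI : StTI.{u}) (hK : HypG K p n) (hq : 2 < p ^ n) (h3 : p ≠ 3)
    {F : FusionSystem (⊤ : Subgroup (GU K))} (hF : F.IsSaturated p) (hcore : F.core = ⊥)
    (hess : ∀ E, F.IsEssential p E → E = Qa K ∨ E = Qb K) : ¬ Inv (F.autGroup (Qa K)) (Z2 K) := by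
  intro h
  have : Fact p.Prime := ⟨hK.pp⟩
  have hfin : Finite (GU K) := finite_GU hK
  exact core_contra (isP hK) hF hcore hess Z2_ne h ⟨Z2_le_Qb, fun γ _ g hg => Z2_char (three_ne hK h3) γ g hg⟩
    (inv_top ((hTI hK hq (Qb K) (Or.inr rfl)).2.2.2.1 h3) Z2_le_Qb fun γ g hg => Z2_char (three_ne hK h3) γ g hg)

/-- `Z₃` is not invariant under `Aut_F(Q_a)`, `p ≥ 5` -/
theorem not_inv_Z3 (hTI : StTI.{u}) (hK : HypG K p n) (hq : 2 < p ^ n) (h2 : p ≠ 2) (h3 : p ≠ 3)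
    {F : FusionSystem (⊤ : Subgroup (GU K))} (hF : F.IsSaturated p) (hcore : F.core = ⊥)
    (hess : ∀ E, F.IsEssential p E → E = Qa K ∨ E = Qb K) : ¬ Inv (F.autGroup (Qa K)) (Z3 K) := by
  intro h
  have : Fact p.Prime := ⟨hK.pp⟩
  have hfin : Finite (GU K) := finite_GU hK
  exact core_contra (isP hK) hF hcore hess Z3_ne h
    ⟨Z3_le_Qb, fun γ _ g hg => Z3_char (two_ne hK h2) (three_ne hK h3) γ g hg⟩
    (inv_top ((hTI hK hq (Qb K) (Or.inr rfl)).2.2.2.1 h3) Z3_le_Qb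
      fun γ g hg => Z3_char (two_ne hK h2) (three_ne hK h3) γ g hg)

/-- for any saturated system: `Par` of `Q_a`, `Q_b` -/
theorem weyl_norm (hK : HypG K p n) {F' : FusionSystem (⊤ : Subgroup (GU K))}
    (hwa : ∀ γ : MulAut (Qa K), IsWa γ → γ ∈ F'.autGroup (Qa K))
    (hwb : ∀ γ : MulAut (Qb K), IsWb γ → γ ∈ F'.autGroup (Qb K)) :
    (¬ ∀ γ ∈ F'.autGroup (Qa K), NormAut ⊤ γ) ∧ ¬ ∀ γ ∈ F'.autGroup (Qb K), NormAut ⊤ γ := by
  have hfin : Finite K := hK.fin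
  obtain ⟨wa, hwa'⟩ := exists_wa (K := K)
  obtain ⟨wb, hwb'⟩ := exists_wb (K := K)
  exact ⟨fun h => not_norm_wa hwa' (h wa (hwa wa hwa')), fun h => not_norm_wb hwb' (h wb (hwb wb hwb'))⟩

/-- `Z₂`, `Z₃` are not invariant under a group containing the Weyl element -/
theorem wa_not_inv (hK : HypG K p n) {Γ : Subgroup (MulAut (Qa K))} (h : ∀ γ : MulAut (Qa K), IsWa γ → γ ∈ Γ) :
    ¬ Inv Γ (Z2 K) ∧ ¬ Inv Γ (Z3 K) := by
  have hfin : Finite K := hK.fin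
  obtain ⟨w, hw⟩ := exists_wa (K := K)
  have key : ∀ Z : Subgroup (GU K), Z2 K ≤ Z → Z ≤ Z4 K → ¬ Inv Γ Z := by
    intro Z h1 h2 hI
    have h3 := h2 (hI.2 w (h w hw) ⟨x5 1, Z2_le_Qa (x5_mem 1)⟩ (h1 (x5_mem 1)))
    have h4 := (mem_Z4.1 h3).2
    rw [hw.b] at h4
    simp [x5] at h4
  exact ⟨key _ le_rfl Z2_le_Z4, key _ Z2_le_Z3 Z3_le_Z4⟩

end

/-- **(MAIN)** `q ≥ 8` -/
theorem stMainBig_of' (H : Pieces.{u}) (hLb : StLb.{u}) (hLa5 : StLaP.{u} fun p _ => 5 ≤ p) (hLa2 : StLaTwo.{u})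
    (hR : StReal.{u}) : StMainBig.{u} := by
  intro K _ p n _ hK hq F hF hcore
  have hq2 : 2 < p ^ n := by omega
  have h7 : ¬ (p = 7 ∧ n = 1) := by
    rintro ⟨rfl, rfl⟩
    norm_num at hq
  -- the short root parabolic, uniformly
  have hLa : ∀ (Γ : Subgroup (MulAut (Qa K))) (D : Subgroup (MulAut (GU K))), Par p (Qa K) Γ D →
      HasTor D (fun t => t⁻¹) (fun t => t ^ 2) → (p ≠ 2 → p ≠ 3 → ¬ Inv Γ (Z2 K) ∧ ¬ Inv Γ (Z3 K)) →
      HasTor D (fun t => t ^ 2) (fun t => (t ^ 3)⁻¹) ∧ (Full D → Γ = Gen IsWa D) := by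
    intro Γ D hP hT hI
    by_cases h2 : p = 2
    · subst h2
      exact hLa2 hK hq Γ D hP hT
    by_cases h3 : p = 3
    · subst h3
      exact la_three_of hLb hK (by omega) Γ D hP
    have h5 : 5 ≤ p := by
      have h1 := hK.pp.two_le
      have h4 : p ≠ 4 := by
        rintro rfl
        exact absurd hK.pp (by norm_num)
      omega
    exact hLa5 hK h5 hq Γ D hP hT (hI h2 h3).1 (hI h2 h3).2
  refine red_core H hK hq2 h7 ?_ F hF hcore
  intro F hF hcore hEa hEb hess D hD hDc hAF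
  have hfin : Finite (GU K) := finite_GU hK
  have Pb := par_of hK hF (Or.inr rfl) (norm_of_ess hK hF hEb) hD hDc hAF
  have Pa := par_of hK hF (Or.inl rfl) (norm_of_ess hK hF hEa) hD hDc hAF
  obtain ⟨tb, gb⟩ := hLb hK (by omega) _ D Pb
  obtain ⟨ta, ga⟩ := hLa _ D Pa tb fun h2 h3 =>
    ⟨not_inv_Z2 H.ti hK hq2 h3 hF hcore hess, not_inv_Z3 H.ti hK hq2 h2 h3 hF hcore hess⟩
  have hfull := full_of tb ta
  obtain ⟨F', hF', hReal, hAF', hwa, hwb⟩ := hR hK D hD hDc hfull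
  obtain ⟨Na', Nb'⟩ := weyl_norm hK hwa hwb
  have Pb' := par_of hK hF' (Or.inr rfl) Nb' hD hDc hAF'
  have Pa' := par_of hK hF' (Or.inl rfl) Na' hD hDc hAF'
  obtain ⟨tb', gb'⟩ := hLb hK (by omega) _ D Pb'
  obtain ⟨-, ga'⟩ := hLa _ D Pa' tb' fun _ _ => wa_not_inv hK hwa
  have hsame := Cfsg.Agent.H546.PU.stSame F F' (Qa K) (Qb K) (isP hK) hF hF' le_top le_top
    hess (fun E hE => ess_cases H hK hq2 h7 hF' hE)
    (autGroup_top_eq_of_AF (hAF.trans hAF'.symm))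
    ((ga hfull).trans (ga' hfull).symm) ((gb hfull).trans (gb' hfull).symm)
  rw [fusionSystem_ext hsame]
  exact hReal

end Cfsg.Agent.H103.GT
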