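import Cfsg.Agent.H779.G2.Stmts3
import Cfsg.Agent.ClassicalGeometry.SympBasic
import Cfsg.Prelude.Def_GeometricClasses

/-!
# S5211: (U2P), transport to `Sp₄(p)` and assembly (helper103)
-/

set_option autoImplicit false
set_option linter.unusedSimpArgs false

namespace Cfsg.Agent.H103.GT

open Cfsg Matrix Cfsg.Agent.H779.G2
open scoped MatrixGroups

universe u v

/-- `StU2P` without its third conclusion -/
def StU2PW : Prop :=
  ∀ {K : Type u} [Field K] {p : ℕ} [Fact p.Prime], HypG K p 1 → 11 ≤ p →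
    ∀ (L : Subgroup (GL (Fin 4) K)), (∀ g ∈ L, (g : Matrix (Fin 4) (Fin 4) K).transpose * Om * (g : Matrix (Fin 4) (Fin 4) K) = Om) →
    ¬ p ^ 2 ∣ Nat.card L → ∀ P : Sylow p L, (∀ g : L, g ∈ (P : Subgroup L) ↔ ∃ t : K, ((g : GL (Fin 4) K) : Matrix (Fin 4) (Fin 4) K) = Xm t) →
    ¬ (P : Subgroup L).Normal →
    (∃ g ∈ L, ∃ i : Fin 4, i ≠ 3 ∧ (g : Matrix (Fin 4) (Fin 4) K) i 3 ≠ 0) →
    (∃ g ∈ L, ∃ i j : Fin 4, (i : ℕ) < 2 ∧ 2 ≤ (j : ℕ) ∧ (g : Matrix (Fin 4) (Fin 4) K) i j ≠ 0) →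
    (∀ P' P'' : Sylow p L, P' ≠ P → P'' ≠ P → ∃ x ∈ (P : Subgroup L),
      (P' : Subgroup L).map (MulAut.conj x).toMonoidHom = P'') ∧
    (∀ P' : Sylow p L, P' ≠ P → ∃ x y : L, x ∈ (P : Subgroup L) ∧ x ≠ 1 ∧ y ∈ (P' : Subgroup L) ∧
      (P : Subgroup L).map (MulAut.conj (x * y * x)).toMonoidHom = P' ∧
      (P' : Subgroup L).map (MulAut.conj (x * y * x)).toMonoidHom = P)

/-- (A) the geometric classes -/
def StRes : Prop :=
  ∀ {F : Type u} [Field F] [Fintype F] {p : ℕ} [Fact p.Prime], 11 ≤ p → Fintype.card F = p →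
    ∀ (L : Subgroup (GL (Fin 2 ⊕ Fin 2) F)), L ≤ Cfsg.spGL 2 F → L ≠ Cfsg.spGL 2 F →
    ∀ x : GL (Fin 2 ⊕ Fin 2) F, x ∈ L → x ^ p = 1 →
    ((x : Matrix (Fin 2 ⊕ Fin 2) (Fin 2 ⊕ Fin 2) F) - 1) ^ 4 = 0 →
    ((x : Matrix (Fin 2 ⊕ Fin 2) (Fin 2 ⊕ Fin 2) F) - 1) ^ 3 ≠ 0 →
    (∀ W : Submodule F (Fin 2 ⊕ Fin 2 → F),
      (∀ g ∈ L, ∀ v ∈ W, (g : Matrix (Fin 2 ⊕ Fin 2) (Fin 2 ⊕ Fin 2) F) *ᵥ v ∈ W) → W = ⊥ ∨ W = ⊤) →
    ∃ H, Cfsg.Geo.IsMaximalIn (Cfsg.spGL 2 F) H ∧ L ≤ H ∧ Cfsg.Geo.InSymplecticResidualClass H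

/-- (B) the residual class -/
def StCon : Prop :=
  ∀ {F : Type u} [Field F] [Fintype F] {p : ℕ} [Fact p.Prime], 11 ≤ p → Fintype.card F = p →
    ∀ H : Subgroup (GL (Fin 2 ⊕ Fin 2) F), Cfsg.Geo.IsMaximalIn (Cfsg.spGL 2 F) H → Cfsg.Geo.InSymplecticResidualClass H →
    ∀ {G : Type v} [Group G] [Finite G] (f : G →* GL (Fin 2 ⊕ Fin 2) F), Function.Injective f → f.range ≤ H →
    p ∣ Nat.card G → ∀ P : Sylow p G, ¬ (P : Subgroup G).Normal →
    (∀ P' P'' : Sylow p G, P' ≠ P → P'' ≠ P → ∃ x ∈ (P : Subgroup G),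
      (P' : Subgroup G).map (MulAut.conj x).toMonoidHom = P'') ∧
    (∀ P' : Sylow p G, P' ≠ P → ∃ x y : G, x ∈ (P : Subgroup G) ∧ x ≠ 1 ∧ y ∈ (P' : Subgroup G) ∧
      (P : Subgroup G).map (MulAut.conj (x * y * x)).toMonoidHom = P' ∧
      (P' : Subgroup G).map (MulAut.conj (x * y * x)).toMonoidHom = P)

/-! ### The change of basis -/

section

variable {K : Type u} [Field K]

local notation "I4" => (Fin 2 ⊕ Fin 2)

variable (K) in
/-- `x ↦ (x₃, x₂ | x₀, -3 x₁)` -/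
def Cm : Matrix I4 (Fin 4) K
  | Sum.inl 0, j => if j = 3 then 1 else 0
  | Sum.inl 1, j => if j = 2 then 1 else 0
  | Sum.inr 0, j => if j = 0 then 1 else 0
  | Sum.inr 1, j => if j = 1 then -3 else 0

variable (K) in
/-- the inverse of `Cm` -/
def Cm' : Matrix (Fin 4) I4 K
  | i, Sum.inl 0 => if i = 3 then 1 else 0
  | i, Sum.inl 1 => if i = 2 then 1 else 0
  | i, Sum.inr 0 => if i = 0 then 1 else 0
  | i, Sum.inr 1 => if i = 1 then -3⁻¹ else 0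

theorem Cm'_mul (h3 : (3 : K) ≠ 0) : Cm' K * Cm K = 1 := by
  ext i j
  fin_cases i <;> fin_cases j <;>
    simp [Matrix.mul_apply, Fintype.sum_sum_type, Fin.sum_univ_two, Cm, Cm', Matrix.one_apply, h3]

theorem Cm_mul (h3 : (3 : K) ≠ 0) : Cm K * Cm' K = 1 := by
  ext i j
  rcases i with i | i <;> rcases j with j | j <;> fin_cases i <;> fin_cases j <;>
    simp [Matrix.mul_apply, Fin.sum_univ_four, Cm, Cm', Matrix.one_apply, h3]

theorem Cm_v0 (x : Fin 4 → K) : (Cm K *ᵥ x) (Sum.inl 0) = x 3 := by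
  simp [Matrix.mulVec, dotProduct, Fin.sum_univ_four, Cm]

theorem Cm_v1 (x : Fin 4 → K) : (Cm K *ᵥ x) (Sum.inl 1) = x 2 := by
  simp [Matrix.mulVec, dotProduct, Fin.sum_univ_four, Cm]

theorem Cm_v2 (x : Fin 4 → K) : (Cm K *ᵥ x) (Sum.inr 0) = x 0 := by
  simp [Matrix.mulVec, dotProduct, Fin.sum_univ_four, Cm]

theorem Cm_v3 (x : Fin 4 → K) : (Cm K *ᵥ x) (Sum.inr 1) = -3 * x 1 := by
  simp [Matrix.mulVec, dotProduct, Fin.sum_univ_four, Cm]

theorem om_eq (u v : Fin 4 → K) : u ⬝ᵥ (Om *ᵥ v) = u 0 * v 3 - 3 * u 1 * v 2 + 3 * u 2 * v 1 - u 3 * v 0 := by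
  simp [Matrix.mulVec, dotProduct, Fin.sum_univ_four, Om]
  ring

theorem sympForm_Cm (u v : Fin 4 → K) : sympForm 2 K (Cm K *ᵥ u) (Cm K *ᵥ v) = u ⬝ᵥ (Om *ᵥ v) := by
  rw [Cfsg.Agent.ClassicalGeometry.SympBasic.sympForm_eq_sum, om_eq, Fin.sum_univ_two, Cm_v0, Cm_v1, Cm_v2, Cm_v3,
    Cm_v0, Cm_v1, Cm_v2, Cm_v3]
  ring

/-- the isomorphism `GL₄ → GL(2 ⊕ 2)` -/
noncomputable def fc (h3 : (3 : K) ≠ 0) : GL (Fin 4) K →* GL I4 K :=
  Units.map
    { toFun := fun M => Cm K * M * Cm' K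
      map_one' := by rw [Matrix.mul_one, Cm_mul h3]
      map_mul' := fun M N => by
        have h := Cm'_mul h3
        calc Cm K * (M * N) * Cm' K = Cm K * M * (1 : Matrix (Fin 4) (Fin 4) K) * N * Cm' K := by
              rw [Matrix.mul_one, ← Matrix.mul_assoc (Cm K)]
          _ = Cm K * M * (Cm' K * Cm K) * N * Cm' K := by rw [h]
          _ = Cm K * M * Cm' K * (Cm K * N * Cm' K) := by simp only [Matrix.mul_assoc] }

theorem coe_fc (h3 : (3 : K) ≠ 0) (g : GL (Fin 4) K) :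
    ((fc h3 g : GL I4 K) : Matrix I4 I4 K) = Cm K * (g : Matrix (Fin 4) (Fin 4) K) * Cm' K := rfl

theorem fc_injective (h3 : (3 : K) ≠ 0) : Function.Injective (fc (K := K) h3) := by
  intro g h hgh
  apply Units.ext
  have h1 := congrArg (fun x : GL I4 K => Cm' K * (x : Matrix I4 I4 K) * Cm K) hgh
  simp only [coe_fc] at h1
  have key : ∀ M : Matrix (Fin 4) (Fin 4) K, Cm' K * (Cm K * M * Cm' K) * Cm K = M := by
    intro M
    calc Cm' K * (Cm K * M * Cm' K) * Cm K = (Cm' K * Cm K) * M * (Cm' K * Cm K) := by simp only [Matrix.mul_assoc]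
      _ = M := by rw [Cm'_mul h3, Matrix.one_mul, Matrix.mul_one]
  rw [key, key] at h1
  exact h1

theorem fc_mulVec (h3 : (3 : K) ≠ 0) (g : GL (Fin 4) K) (v : Fin 4 → K) :
    ((fc h3 g : GL I4 K) : Matrix I4 I4 K) *ᵥ (Cm K *ᵥ v) = Cm K *ᵥ ((g : Matrix (Fin 4) (Fin 4) K) *ᵥ v) := by
  rw [coe_fc, Matrix.mulVec_mulVec, Matrix.mulVec_mulVec, Matrix.mul_assoc, Matrix.mul_assoc, Cm'_mul h3, Matrix.mul_one]

theorem exists_Cm (h3 : (3 : K) ≠ 0) (w : I4 → K) : ∃ v : Fin 4 → K, w = Cm K *ᵥ v :=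
  ⟨Cm' K *ᵥ w, by rw [Matrix.mulVec_mulVec, Cm_mul h3, Matrix.one_mulVec]⟩

theorem fc_mem (h3 : (3 : K) ≠ 0) {g : GL (Fin 4) K}
    (hg : (g : Matrix (Fin 4) (Fin 4) K).transpose * Om * (g : Matrix (Fin 4) (Fin 4) K) = Om) :
    fc h3 g ∈ Cfsg.spGL 2 K := by
  intro u v
  obtain ⟨u, rfl⟩ := exists_Cm h3 u
  obtain ⟨v, rfl⟩ := exists_Cm h3 v
  show sympForm 2 K (((fc h3 g : GL I4 K) : Matrix I4 I4 K) *ᵥ _) (((fc h3 g : GL I4 K) : Matrix I4 I4 K) *ᵥ _) = _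
  rw [fc_mulVec, fc_mulVec, sympForm_Cm, sympForm_Cm]
  conv_rhs => rw [← hg]
  rw [← Matrix.mulVec_mulVec, ← Matrix.mulVec_mulVec, Matrix.dotProduct_mulVec _ (g : Matrix (Fin 4) (Fin 4) K)ᵀ,
    Matrix.vecMul_transpose]

/-! ### the regular unipotent element -/

theorem Xm_zero : Xm (0 : K) = 1 := by
  ext i j
  fin_cases i <;> fin_cases j <;> simp [Xm, Matrix.one_apply]

theorem Xm_mul (s t : K) : Xm s * Xm t = Xm (s + t) := by
  ext i j
  fin_cases i <;> fin_cases j <;> simp [Xm, Matrix.mul_apply, Fin.sum_univ_four] <;> ring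

theorem Xm_pow (t : K) (k : ℕ) : Xm t ^ k = Xm (k * t) := by
  induction k with
  | zero => rw [pow_zero, Nat.cast_zero, zero_mul, Xm_zero]
  | succ k ih =>
    rw [pow_succ, ih, Xm_mul]
    congr 1
    push_cast
    ring

/-- `N = Xm t - 1`, its square and its cube -/
theorem Xm_sub (t : K) : Xm t - 1 = !![0, 0, 0, 0; -t, 0, 0, 0; t ^ 2, -2 * t, 0, 0; -t ^ 3, 3 * t ^ 2, -3 * t, 0] := by
  ext i j
  fin_cases i <;> fin_cases j <;> simp [Xm, Matrix.one_apply]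

theorem Xm_sq (t : K) : (Xm t - 1) ^ 2 = !![0, 0, 0, 0; 0, 0, 0, 0; 2 * t ^ 2, 0, 0, 0; -6 * t ^ 3, 6 * t ^ 2, 0, 0] := by
  rw [sq, Xm_sub]
  ext i j
  fin_cases i <;> fin_cases j <;> simp [Matrix.mul_apply, Fin.sum_univ_four] <;> ring

theorem Xm_cube (t : K) : (Xm t - 1) ^ 3 = !![0, 0, 0, 0; 0, 0, 0, 0; 0, 0, 0, 0; -6 * t ^ 3, 0, 0, 0] := by
  rw [pow_succ, Xm_sq, Xm_sub]
  ext i j
  fin_cases i <;> fin_cases j <;> simp [Matrix.mul_apply, Fin.sum_univ_four] <;> ring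

set_option linter.unnecessarySeqFocus false in
theorem Xm_four (t : K) : (Xm t - 1) ^ 4 = 0 := by
  rw [pow_succ, Xm_cube, Xm_sub]
  ext i j
  fin_cases i <;> fin_cases j <;> simp [Matrix.mul_apply, Fin.sum_univ_four]

theorem fc_sub_pow (h3 : (3 : K) ≠ 0) (g : GL (Fin 4) K) (k : ℕ) :
    (((fc h3 g : GL I4 K) : Matrix I4 I4 K) - 1) ^ k = Cm K * ((g : Matrix (Fin 4) (Fin 4) K) - 1) ^ k * Cm' K := by
  have h1 : ((fc h3 g : GL I4 K) : Matrix I4 I4 K) - 1 = Cm K * ((g : Matrix (Fin 4) (Fin 4) K) - 1) * Cm' K := by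
    rw [coe_fc, Matrix.mul_sub, Matrix.sub_mul, Matrix.mul_one, Cm_mul h3]
  induction k with
  | zero => rw [pow_zero, pow_zero, Matrix.mul_one, Cm_mul h3]
  | succ k ih =>
    rw [pow_succ, ih, h1, pow_succ]
    calc Cm K * ((g : Matrix (Fin 4) (Fin 4) K) - 1) ^ k * Cm' K * (Cm K * ((g : Matrix (Fin 4) (Fin 4) K) - 1) * Cm' K)
        = Cm K * ((g : Matrix (Fin 4) (Fin 4) K) - 1) ^ k * (Cm' K * Cm K) * ((g : Matrix (Fin 4) (Fin 4) K) - 1) * Cm' K := by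
          simp only [Matrix.mul_assoc]
      _ = _ := by rw [Cm'_mul h3, Matrix.mul_one, Matrix.mul_assoc (Cm K)]

theorem Cm_eq_zero (h3 : (3 : K) ≠ 0) {M : Matrix (Fin 4) (Fin 4) K} (h : Cm K * M * Cm' K = 0) : M = 0 := by
  have h1 : Cm' K * (Cm K * M * Cm' K) * Cm K = M := by
    calc Cm' K * (Cm K * M * Cm' K) * Cm K = (Cm' K * Cm K) * M * (Cm' K * Cm K) := by simp only [Matrix.mul_assoc]
      _ = M := by rw [Cm'_mul h3, Matrix.one_mul, Matrix.mul_one]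
  rw [← h1, h, Matrix.mul_zero, Matrix.zero_mul]

/-! ### irreducibility -/

/-- an invariant subspace of a group containing `Xm 1` and moving `⟨e⟩` and `⟨d, e⟩` is trivial -/
theorem irr (h2 : (2 : K) ≠ 0) (h3 : (3 : K) ≠ 0) (L : Subgroup (GL (Fin 4) K))
    (hL : ∀ g ∈ L, (g : Matrix (Fin 4) (Fin 4) K).transpose * Om * (g : Matrix (Fin 4) (Fin 4) K) = Om)
    {x : GL (Fin 4) K} (hx : x ∈ L) (hx1 : (x : Matrix (Fin 4) (Fin 4) K) = Xm 1)
    (h1 : ∃ g ∈ L, ∃ i : Fin 4, i ≠ 3 ∧ (g : Matrix (Fin 4) (Fin 4) K) i 3 ≠ 0)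
    (h4 : ∃ g ∈ L, ∃ i j : Fin 4, (i : ℕ) < 2 ∧ 2 ≤ (j : ℕ) ∧ (g : Matrix (Fin 4) (Fin 4) K) i j ≠ 0)
    (W : Submodule K (Fin 4 → K)) (hW : ∀ g ∈ L, ∀ v ∈ W, (g : Matrix (Fin 4) (Fin 4) K) *ᵥ v ∈ W) : W = ⊥ ∨ W = ⊤ := by
  have h6 : (6 : K) ≠ 0 := by
    have : (6 : K) = 2 * 3 := by norm_num
    rw [this]
    exact mul_ne_zero h2 h3
  -- the action of `N = Xm 1 - 1`
  have hN : ∀ v ∈ W, (![0, -v 0, v 0 - 2 * v 1, -v 0 + 3 * v 1 - 3 * v 2] : Fin 4 → K) ∈ W := by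
    intro v hv
    have h5 := W.sub_mem (hW x hx v hv) hv
    have h6 : (x : Matrix (Fin 4) (Fin 4) K) *ᵥ v - v = ![0, -v 0, v 0 - 2 * v 1, -v 0 + 3 * v 1 - 3 * v 2] := by
      rw [hx1]
      ext i
      fin_cases i <;> simp [Xm, Matrix.mulVec, dotProduct, Fin.sum_univ_four] <;> ring
    rwa [h6] at h5
  -- leading coefficients
  have d3 : ∀ v ∈ W, v 0 = 0 → v 1 = 0 → v 2 = 0 → v 3 ≠ 0 → (![0, 0, 0, 1] : Fin 4 → K) ∈ W := by
    intro v hv h0 h1 h2 hc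
    have := W.smul_mem (v 3)⁻¹ hv
    convert this using 1
    ext i
    fin_cases i <;> simp [h0, h1, h2, hc]
  have d2 : ∀ v ∈ W, v 0 = 0 → v 1 = 0 → v 2 ≠ 0 →
      (![0, 0, 1, 0] : Fin 4 → K) ∈ W ∧ (![0, 0, 0, 1] : Fin 4 → K) ∈ W := by
    intro v hv h0 h1 hc
    have m3 := d3 _ (hN v hv) (by simp) (by simp [h0]) (by simp [h0, h1]) (by simp [h0, h1, hc, h3])
    refine ⟨?_, m3⟩
    have := W.smul_mem (v 2)⁻¹ (W.sub_mem hv (W.smul_mem (v 3) m3))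
    convert this using 1
    ext i
    fin_cases i <;> simp [h0, h1, hc, Matrix.vecHead, Matrix.vecTail]
  have d1 : ∀ v ∈ W, v 0 = 0 → v 1 ≠ 0 → (![0, 1, 0, 0] : Fin 4 → K) ∈ W ∧
      (![0, 0, 1, 0] : Fin 4 → K) ∈ W ∧ (![0, 0, 0, 1] : Fin 4 → K) ∈ W := by
    intro v hv h0 hc
    obtain ⟨m2, m3⟩ := d2 _ (hN v hv) (by simp) (by simp [h0]) (by simp [h0, hc, h2])
    refine ⟨?_, m2, m3⟩
    have := W.smul_mem (v 1)⁻¹ (W.sub_mem (W.sub_mem hv (W.smul_mem (v 3) m3)) (W.smul_mem (v 2) m2))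
    convert this using 1
    ext i
    fin_cases i <;> simp [h0, hc, Matrix.vecHead, Matrix.vecTail]
  have d0 : ∀ v ∈ W, v 0 ≠ 0 → (![1, 0, 0, 0] : Fin 4 → K) ∈ W ∧ (![0, 1, 0, 0] : Fin 4 → K) ∈ W ∧
      (![0, 0, 1, 0] : Fin 4 → K) ∈ W ∧ (![0, 0, 0, 1] : Fin 4 → K) ∈ W := by
    intro v hv hc
    obtain ⟨m1, m2, m3⟩ := d1 _ (hN v hv) (by simp) (by simp [hc])
    refine ⟨?_, m1, m2, m3⟩
    have := W.smul_mem (v 0)⁻¹ (W.sub_mem (W.sub_mem (W.sub_mem hv (W.smul_mem (v 3) m3)) (W.smul_mem (v 2) m2))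
      (W.smul_mem (v 1) m1))
    convert this using 1
    ext i
    fin_cases i <;> simp [hc, Matrix.vecHead, Matrix.vecTail]
  -- `e₃` is moved
  obtain ⟨g, hg, i, hi, hgi⟩ := h1
  obtain ⟨g', hg', i', j', hi', hj', hgi'⟩ := h4
  have hge : ∀ (M : Matrix (Fin 4) (Fin 4) K) (i : Fin 4), (M *ᵥ (![0, 0, 0, 1] : Fin 4 → K)) i = M i 3 := by
    intro M i
    simp [Matrix.mulVec, dotProduct, Fin.sum_univ_four]
  by_cases c0 : ∃ v ∈ W, v 0 ≠ 0
  · right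
    obtain ⟨v, hv, hv0⟩ := c0
    obtain ⟨m0, m1, m2, m3⟩ := d0 v hv hv0
    rw [eq_top_iff]
    intro w _
    have : w = w 0 • ![1, 0, 0, 0] + w 1 • ![0, 1, 0, 0] + w 2 • ![0, 0, 1, 0] + w 3 • ![0, 0, 0, 1] := by
      ext i
      fin_cases i <;> simp
    rw [this]
    exact W.add_mem (W.add_mem (W.add_mem (W.smul_mem _ m0) (W.smul_mem _ m1)) (W.smul_mem _ m2)) (W.smul_mem _ m3)
  left
  push Not at c0
  by_cases c1 : ∃ v ∈ W, v 1 ≠ 0
  · exfalso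
    obtain ⟨v, hv, hv1⟩ := c1
    obtain ⟨m1, m2, m3⟩ := d1 v hv (c0 v hv) hv1
    -- `g e₃` is orthogonal to `W`
    have key : ∀ w ∈ W, ((g : Matrix (Fin 4) (Fin 4) K) *ᵥ (![0, 0, 0, 1] : Fin 4 → K)) ⬝ᵥ (Om *ᵥ w) = 0 := by
      intro w hw
      have hw' : ((g⁻¹ : GL (Fin 4) K) : Matrix (Fin 4) (Fin 4) K) *ᵥ w ∈ W := hW _ (L.inv_mem hg) w hw
      have e : w = (g : Matrix (Fin 4) (Fin 4) K) *ᵥ (((g⁻¹ : GL (Fin 4) K) : Matrix (Fin 4) (Fin 4) K) *ᵥ w) := by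
        rw [Matrix.mulVec_mulVec, ← Units.val_mul, mul_inv_cancel, Units.val_one, Matrix.one_mulVec]
      have e2 : ∀ u v : Fin 4 → K, ((g : Matrix (Fin 4) (Fin 4) K) *ᵥ u) ⬝ᵥ (Om *ᵥ ((g : Matrix (Fin 4) (Fin 4) K) *ᵥ v)) =
          u ⬝ᵥ (Om *ᵥ v) := by
        intro u v
        conv_rhs => rw [← hL g hg]
        rw [← Matrix.mulVec_mulVec, ← Matrix.mulVec_mulVec, Matrix.dotProduct_mulVec _ (g : Matrix (Fin 4) (Fin 4) K)ᵀ,
          Matrix.vecMul_transpose]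
      rw [e, e2, om_eq, c0 _ hw']
      simp
    have k1 := key _ m1
    have k2 := key _ m2
    have k3 := key _ m3
    rw [om_eq, hge, hge, hge, hge] at k1 k2 k3
    simp [h3] at k1 k2 k3
    fin_cases i
    · exact hgi k3
    · exact hgi k2
    · exact hgi k1
    · exact hi rfl
  push Not at c1
  by_cases c2 : ∃ v ∈ W, v 2 ≠ 0
  · exfalso
    obtain ⟨v, hv, hv2⟩ := c2
    obtain ⟨m2, m3⟩ := d2 v hv (c0 v hv) (c1 v hv) hv2
    have n2 := hW g' hg' _ m2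
    have n3 := hW g' hg' _ m3
    have a0 := c0 _ n2
    have a1 := c1 _ n2
    have b0 := c0 _ n3
    have b1 := c1 _ n3
    simp [Matrix.mulVec, dotProduct, Fin.sum_univ_four] at a0 a1 b0 b1
    fin_cases i' <;> fin_cases j' <;> simp_all
  push Not at c2
  by_cases c3 : ∃ v ∈ W, v 3 ≠ 0
  · exfalso
    obtain ⟨v, hv, hv3⟩ := c3
    have m3 := d3 v hv (c0 v hv) (c1 v hv) (c2 v hv) hv3
    have n3 := hW g hg _ m3
    have b0 := c0 _ n3
    have b1 := c1 _ n3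
    have b2 := c2 _ n3
    rw [hge] at b0 b1 b2
    fin_cases i
    · exact hgi b0
    · exact hgi b1
    · exact hgi b2
    · exact hi rfl
  push Not at c3
  rw [eq_bot_iff]
  intro v hv
  rw [Submodule.mem_bot]
  ext i
  fin_cases i
  · exact c0 v hv
  · exact c1 v hv
  · exact c2 v hv
  · exact c3 v hv

end

/-! ### the assembly -/

open Cfsg.Agent.ClassicalGeometry.SympBasic in
/-- a transvection of `Sp₄(K)`, as an element of `GL` -/
theorem exists_transv (K : Type u) [Field K] : ∃ τ : GL (Fin 2 ⊕ Fin 2) K, τ ∈ Cfsg.spGL 2 K ∧ τ ≠ 1 ∧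
    ((τ : Matrix (Fin 2 ⊕ Fin 2) (Fin 2 ⊕ Fin 2) K) - 1) ^ 2 = 0 := by
  let v : Fin 2 ⊕ Fin 2 → K := Pi.single (Sum.inl 0) 1
  let τ : GL (Fin 2 ⊕ Fin 2) K := ⟨sympTransvection 2 v 1, sympTransvection 2 v (-1),
    by rw [sympTransvection_mul, add_neg_cancel, sympTransvection_zero],
    by rw [sympTransvection_mul, neg_add_cancel, sympTransvection_zero]⟩
  refine ⟨τ, ?_, ?_, ?_⟩
  · intro x y
    exact sympForm_mulVec (sympTransvection_mem v 1) x y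
  · intro h
    have h1 : sympTransvection 2 v (1 : K) = 1 := congrArg Units.val h
    have h2 := congrFun (congrArg (fun M => M *ᵥ (Pi.single (Sum.inr 0) 1 : Fin 2 ⊕ Fin 2 → K)) h1) (Sum.inl 0)
    simp only [sympTransvection_mulVec, Matrix.one_mulVec] at h2
    simp [v, sympForm_single_inr_left] at h2
  · show (sympTransvection 2 v (1 : K) - 1) ^ 2 = 0
    have h1 : ∀ x : Fin 2 ⊕ Fin 2 → K, (sympTransvection 2 v (1 : K) - 1) *ᵥ x = (sympForm 2 K x v) • v := by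
      intro x
      rw [Matrix.sub_mulVec, sympTransvection_mulVec, Matrix.one_mulVec, one_mul, add_sub_cancel_left]
    rw [← Matrix.mulVec_injective.eq_iff]
    funext x
    rw [sq, ← Matrix.mulVec_mulVec, h1, h1, sympForm_smul_left, sympForm_self, mul_zero, zero_smul, Matrix.zero_mulVec]

/-- **(U2P)**, first two conclusions -/
theorem stU2PW_of (hres : StRes.{u}) (hcon : StCon.{u, u}) : StU2PW.{u} := by
  intro K _ p _ hK hp L hL hp2 P hP hn h1 h4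
  have hfin : Finite K := hK.fin
  have := Fintype.ofFinite K
  have hchar := hK.char
  have hcard : Fintype.card K = p := by
    rw [← Nat.card_eq_fintype_card, hK.card, pow_one]
  have h2 : (2 : K) ≠ 0 := by
    intro h
    have h' : ((2 : ℕ) : K) = 0 := by exact_mod_cast h
    rw [CharP.cast_eq_zero_iff K p 2] at h'
    exact absurd (Nat.le_of_dvd (by norm_num) h') (by omega)
  have h3 : (3 : K) ≠ 0 := by
    intro h
    have h' : ((3 : ℕ) : K) = 0 := by exact_mod_cast h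
    rw [CharP.cast_eq_zero_iff K p 3] at h'
    exact absurd (Nat.le_of_dvd (by norm_num) h') (by omega)
  have h6 : (6 : K) ≠ 0 := by
    have : (6 : K) = 2 * 3 := by norm_num
    rw [this]
    exact mul_ne_zero h2 h3
  -- `P` is nontrivial, so `Xm 1` lies in `L`
  obtain ⟨x, hxL, hx1⟩ : ∃ x : GL (Fin 4) K, x ∈ L ∧ (x : Matrix (Fin 4) (Fin 4) K) = Xm 1 := by
    have hPb : (P : Subgroup L) ≠ ⊥ := by
      intro h
      apply hn
      rw [h]
      infer_instance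
    obtain ⟨g, hg, hg1⟩ : ∃ g : L, g ∈ (P : Subgroup L) ∧ g ≠ 1 := by
      by_contra hcon
      push Not at hcon
      exact hPb ((Subgroup.eq_bot_iff_forall _).2 hcon)
    obtain ⟨t, ht⟩ := (hP _).1 hg
    have ht0 : t ≠ 0 := by
      rintro rfl
      rw [Xm_zero] at ht
      exact hg1 (Subtype.ext (Units.ext ht))
    have hbij := ZMod.castHom_bijective (R := K) (n := p) hcard
    obtain ⟨z, hz⟩ := hbij.2 t⁻¹
    refine ⟨(g : GL (Fin 4) K) ^ z.val, L.pow_mem g.2 _, ?_⟩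
    rw [Units.val_pow_eq_pow_val, ht, Xm_pow]
    have h5 : ((z.val : ℕ) : K) = t⁻¹ := by
      rw [← hz]
      conv_rhs => rw [← ZMod.natCast_zmod_val z]
      rw [map_natCast]
    rw [h5, inv_mul_cancel₀ ht0]
  have hxp : x ^ p = 1 := by
    apply Units.ext
    rw [Units.val_pow_eq_pow_val, hx1, Xm_pow, CharP.cast_eq_zero, zero_mul, Xm_zero, Units.val_one]
  have hxne : x ≠ 1 := by
    rintro rfl
    have h5 := congrFun (congrFun hx1 1) 0
    simp [Xm] at h5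
  -- the homomorphism
  let f : L →* GL (Fin 2 ⊕ Fin 2) K := (fc h3).comp L.subtype
  have hf : Function.Injective f := (fc_injective h3).comp (Subgroup.subtype_injective L)
  have hmem : ∀ y : GL (Fin 2 ⊕ Fin 2) K, y ∈ f.range ↔ ∃ g ∈ L, y = fc h3 g := by
    intro y
    constructor
    · rintro ⟨g, rfl⟩
      exact ⟨g, g.2, rfl⟩
    · rintro ⟨g, hg, rfl⟩
      exact ⟨⟨g, hg⟩, rfl⟩
  have hle : f.range ≤ Cfsg.spGL 2 K := by
    intro y hy
    obtain ⟨g, hg, rfl⟩ := (hmem y).1 hy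
    exact fc_mem h3 (hL g hg)
  -- no transvections
  have hne : f.range ≠ Cfsg.spGL 2 K := by
    intro h
    obtain ⟨τ, hτ, hτ1, hτ2⟩ := exists_transv K
    rw [← h] at hτ
    obtain ⟨g, hg, rfl⟩ := (hmem τ).1 hτ
    rw [fc_sub_pow] at hτ2
    have hg2 := Cm_eq_zero h3 hτ2
    have hgp : g ^ p = 1 := by
      apply Units.ext
      have h5 : ((g : Matrix (Fin 4) (Fin 4) K) - 1) ^ p = 0 := by
        obtain ⟨k, rfl⟩ := Nat.exists_eq_add_of_le (show 2 ≤ p by omega)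
        rw [pow_add, hg2, zero_mul]
      have : CharP (Matrix (Fin 4) (Fin 4) K) p := inferInstance
      rw [sub_pow_char_of_commute p (Commute.one_right (g : Matrix (Fin 4) (Fin 4) K)), one_pow, sub_eq_zero] at h5
      rw [Units.val_pow_eq_pow_val, h5, Units.val_one]
    have hpg : IsPGroup p (Subgroup.zpowers (⟨g, hg⟩ : L)) := by
      rintro ⟨y, hy⟩
      obtain ⟨k, rfl⟩ := Subgroup.mem_zpowers_iff.1 hy
      refine ⟨1, Subtype.ext (Subtype.ext ?_)⟩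
      show ((g : GL (Fin 4) K) ^ k) ^ p ^ 1 = 1
      rw [pow_one, ← _root_.zpow_natCast, ← _root_.zpow_mul, mul_comm, _root_.zpow_mul, _root_.zpow_natCast, hgp,
        _root_.one_zpow]
    obtain ⟨Q, hQ⟩ := hpg.exists_le_sylow
    obtain ⟨c, hc⟩ := MulAction.exists_smul_eq L Q P
    have h5 : c * ⟨g, hg⟩ * c⁻¹ ∈ (P : Subgroup L) := by
      rw [← hc]
      have h7 := Subgroup.smul_mem_pointwise_smul (⟨g, hg⟩ : L) (MulAut.conj c) (Q : Subgroup L)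
        (hQ (Subgroup.mem_zpowers _))
      exact h7
    obtain ⟨t, ht⟩ := (hP _).1 h5
    have h7 : (((c * ⟨g, hg⟩ * c⁻¹ : L) : GL (Fin 4) K) : Matrix (Fin 4) (Fin 4) K) =
        ((c : GL (Fin 4) K) : Matrix (Fin 4) (Fin 4) K) * (g : Matrix (Fin 4) (Fin 4) K) *
          (((c : GL (Fin 4) K)⁻¹ : GL (Fin 4) K) : Matrix (Fin 4) (Fin 4) K) := rfl
    have h8 : ((c : GL (Fin 4) K) : Matrix (Fin 4) (Fin 4) K) *
        (((c : GL (Fin 4) K)⁻¹ : GL (Fin 4) K) : Matrix (Fin 4) (Fin 4) K) = 1 := by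
      rw [← Units.val_mul, mul_inv_cancel, Units.val_one]
    have h9 : (((c : GL (Fin 4) K)⁻¹ : GL (Fin 4) K) : Matrix (Fin 4) (Fin 4) K) *
        ((c : GL (Fin 4) K) : Matrix (Fin 4) (Fin 4) K) = 1 := by
      rw [← Units.val_mul, inv_mul_cancel, Units.val_one]
    have h10 : (Xm t - 1) ^ 2 = (0 : Matrix (Fin 4) (Fin 4) K) := by
      rw [← ht, h7]
      set C := ((c : GL (Fin 4) K) : Matrix (Fin 4) (Fin 4) K)
      set C' := (((c : GL (Fin 4) K)⁻¹ : GL (Fin 4) K) : Matrix (Fin 4) (Fin 4) K)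
      have e1 : C * (g : Matrix (Fin 4) (Fin 4) K) * C' - 1 = C * ((g : Matrix (Fin 4) (Fin 4) K) - 1) * C' := by
        rw [Matrix.mul_sub, Matrix.sub_mul, Matrix.mul_one, h8]
      rw [e1, sq]
      calc C * ((g : Matrix (Fin 4) (Fin 4) K) - 1) * C' * (C * ((g : Matrix (Fin 4) (Fin 4) K) - 1) * C')
          = C * ((g : Matrix (Fin 4) (Fin 4) K) - 1) * (C' * C) * ((g : Matrix (Fin 4) (Fin 4) K) - 1) * C' := by
            simp only [Matrix.mul_assoc]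
        _ = C * (((g : Matrix (Fin 4) (Fin 4) K) - 1) ^ 2) * C' := by
            rw [h9, Matrix.mul_one, sq, Matrix.mul_assoc C]
        _ = 0 := by rw [hg2, Matrix.mul_zero, Matrix.zero_mul]
    have h11 := congrFun (congrFun h10 2) 0
    rw [Xm_sq] at h11
    simp [h2] at h11
    subst h11
    rw [Xm_zero] at ht
    have h12 : (c * ⟨g, hg⟩ * c⁻¹ : L) = 1 := Subtype.ext (Units.ext ht)
    have h13 : (⟨g, hg⟩ : L) = 1 := by
      have : (⟨g, hg⟩ : L) = c⁻¹ * (c * ⟨g, hg⟩ * c⁻¹) * c := by group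
      rw [this, h12]
      group
    apply hτ1
    rw [show g = 1 from congrArg Subtype.val h13, map_one]
  -- the maximal overgroup
  obtain ⟨H, hH, hHL, hHS⟩ := hres hp hcard f.range hle hne (fc h3 x) ((hmem _).2 ⟨x, hxL, rfl⟩)
    (by rw [← map_pow, hxp, map_one])
    (by rw [fc_sub_pow, hx1, Xm_four, Matrix.mul_zero, Matrix.zero_mul])
    (by
      intro h
      rw [fc_sub_pow, hx1] at h
      have h5 := congrFun (congrFun (Cm_eq_zero h3 h) 3) 0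
      rw [Xm_cube] at h5
      simp [h6] at h5)
    (by
      intro W hW
      have h5 := irr h2 h3 L hL hxL hx1 h1 h4 (W.comap (Matrix.mulVecLin (Cm K))) (by
        intro g hg v hv
        have h6 := hW (fc h3 g) ((hmem _).2 ⟨g, hg, rfl⟩) _ hv
        show Cm K *ᵥ _ ∈ W
        rw [← fc_mulVec h3]
        exact h6)
      rcases h5 with h5 | h5
      · left
        rw [eq_bot_iff]
        intro w hw
        obtain ⟨v, rfl⟩ := exists_Cm h3 w
        have h6 : v ∈ W.comap (Matrix.mulVecLin (Cm K)) := hw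
        rw [h5, Submodule.mem_bot] at h6
        rw [h6, Matrix.mulVec_zero]
        exact Submodule.zero_mem _
      · right
        rw [eq_top_iff]
        intro w _
        obtain ⟨v, rfl⟩ := exists_Cm h3 w
        have h6 : v ∈ W.comap (Matrix.mulVecLin (Cm K)) := h5 ▸ Submodule.mem_top
        exact h6)
  have hpL : p ∣ Nat.card L := by
    have h5 : orderOf (⟨x, hxL⟩ : L) = p := by
      refine orderOf_eq_prime (Subtype.ext hxp) ?_
      intro h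
      exact hxne (congrArg Subtype.val h)
    rw [← h5]
    exact orderOf_dvd_natCard _
  exact hcon hp hcard H hH hHS f hf hHL hpL P hn

end Cfsg.Agent.H103.GT
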